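import Cfsg.Agent.Lib.NormalRankTwo.Coordinates

/-!
# A 2-group without normal elementary abelian subgroups of order eight has sectional rank at most 4
-/

set_option autoImplicit false
set_option linter.unusedSectionVars false

namespace Cfsg.Agent.Lib.NormalRankTwo

open Subgroup
open scoped commutatorElement

variable {P : Type*} [Group P] [Finite P] {A : Subgroup P}

namespace Hyp

variable (h : Hyp A)
include h

local notation "C" => Subgroup.centralizer (A : Set P)
local notation "T" => Subgroup.centralizer (h.E : Set P)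

theorem card_le_two_mul_inf (H : Subgroup P) :
    Nat.card H ≤ 2 * Nat.card (H ⊓ T : Subgroup P) :=
  have := h.normal_T
  (card_le_index_mul_inf T H).trans (Nat.mul_le_mul_right _ h.index_T_le)

/-- The count for a subgroup outside `T`, given a bound on the fixed cosets. -/
theorem bound_of_fixed (H : Subgroup P) {β : Type*} (f : P → β) (F : Finset β) {g : P} (hg : g ∈ H)
    (hf : ∀ t ∈ H ⊓ T, ⁅g, t⁆ ∈ C → f t ∈ F)
    (hinj : ∀ x ∈ T, ∀ y ∈ T, f x = f y → x⁻¹ * y ∈ C)
    (hF : F.card * Nat.card (H ⊓ C : Subgroup P) ≤ 8 * Nat.card (sqGen H ⊓ C : Subgroup P)) :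
    Nat.card H ≤ 16 * Nat.card (sqGen H) := by
  have := h.normal_C
  obtain ⟨D, hDT, hCD, hD, hcount⟩ := h.exists_fixed_subgroup H hg
  have h1 : Nat.card D ≤ F.card * Nat.card (H ⊓ C : Subgroup P) := by
    refine (card_le_mul_of_fun C D f F (fun x hx => hf x (hDT hx) (hD x hx))
      (fun x hx y hy => hinj x (hDT hx).2 y (hDT hy).2)).trans (Nat.mul_le_mul_left _ ?_)
    exact Subgroup.card_le_of_le (inf_le_inf_right _ (hDT.trans inf_le_left))
  refine Nat.le_of_mul_le_mul_right ?_ (Nat.card_pos (α := (sqGen H ⊓ C : Subgroup P)))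
  calc Nat.card H * Nat.card (sqGen H ⊓ C : Subgroup P)
      ≤ 2 * Nat.card (H ⊓ T : Subgroup P) * Nat.card (sqGen H ⊓ C : Subgroup P) :=
        Nat.mul_le_mul_right _ (h.card_le_two_mul_inf H)
    _ ≤ 2 * (Nat.card D * Nat.card (sqGen H)) := by
        rw [mul_assoc]; exact Nat.mul_le_mul_left _ hcount
    _ ≤ 2 * (8 * Nat.card (sqGen H ⊓ C : Subgroup P) * Nat.card (sqGen H)) :=
        Nat.mul_le_mul_left _ (Nat.mul_le_mul_right _ (h1.trans hF))
    _ = _ := by ring

/-- Either the subgroup of `C` contributes at most a factor two, or all squares of `H ⊓ T` lie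
among the squares of `C`. -/
theorem contribution (H : Subgroup P) :
    Nat.card (H ⊓ C : Subgroup P) ≤ 2 * Nat.card (sqGen H ⊓ C : Subgroup P) ∨
      ∀ t ∈ H ⊓ T, t ^ 2 ∈ sqGen (C : Subgroup P) := by
  rcases le_or_gt (Nat.card (H ⊓ C : Subgroup P)) (2 * Nat.card (sqGen H ⊓ C : Subgroup P)) with
    hle | hlt
  · exact Or.inl hle
  right
  have hsub : sqGen (H ⊓ C) ≤ sqGen H ⊓ C :=
    le_inf (sqGen_mono inf_le_left) (sqGen_le.trans inf_le_right)
  obtain ⟨m, hm⟩ := Subgroup.card_dvd_of_le hsub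
  have h4 := h.card_le_four_mul (inf_le_right : H ⊓ C ≤ C)
  have hm2 : m < 2 := by
    by_contra hm2
    have := Nat.mul_le_mul_left (Nat.card (sqGen (H ⊓ C) : Subgroup P)) (Nat.not_lt.mp hm2)
    omega
  have heq : sqGen (H ⊓ C) = sqGen H ⊓ C := by
    refine Subgroup.eq_of_le_of_card_ge hsub ?_
    rw [hm]
    exact (Nat.mul_le_mul_left _ (Nat.lt_succ_iff.mp hm2)).trans_eq (mul_one _)
  intro t ht
  refine sqGen_mono inf_le_right (show t ^ 2 ∈ sqGen (H ⊓ C) from ?_)
  rw [heq]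
  exact ⟨sq_mem_sqGen ht.1, h.sq_mem_C ht.2⟩

theorem bound_card_eight {z e a : P} (K : Co h z e) (ha : a ∈ A)
    (hgen : ∀ x ∈ A, x ∈ h.E ∨ x * a⁻¹ ∈ h.E) (H : Subgroup P) :
    Nat.card H ≤ 16 * Nat.card (sqGen H) := by
  classical
  have := h.normal_C
  have hinj : ∀ x ∈ T, ∀ y ∈ T, ⁅x, a⁆ = ⁅y, a⁆ → x⁻¹ * y ∈ C := by
    intro x hx y hy hxy
    have hxy' : x⁻¹ * y ∈ T := Subgroup.mul_mem _ (Subgroup.inv_mem _ hx) hy
    have ha1 : ⁅x⁻¹ * y, a⁆ = 1 := by
      rw [h.comm_mul_left (Subgroup.inv_mem _ hx) hy ha, ← hxy,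
        ← h.comm_mul_left (Subgroup.inv_mem _ hx) hx ha, inv_mul_cancel, commutatorElement_one_left]
    rw [h.mem_C_iff]
    intro u hu
    rcases hgen u hu with hu' | hu'
    · exact commutatorElement_eq_one_iff_mul_comm.mpr (h.E_commute hxy' hu')
    · have := h.comm_mul_right hxy' hu'.1 ha
      rw [inv_mul_cancel_right, commutatorElement_eq_one_iff_mul_comm.mpr
        (h.E_commute hxy' hu'), ha1, mul_one] at this
      exact this
  have hK4 := h.card_inf_C_le H
  by_cases hHT : H ≤ T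
  · let F : Finset P := {1, z, e, z * e}
    have hF : ∀ x ∈ h.E, x ∈ F := by
      intro x hx
      obtain ⟨v, rfl⟩ := K.ev_surj hx
      have hcases : ∀ w : Vec, w = 0 ∨ w = (1, 0) ∨ w = (0, 1) ∨ w = (1, 0) + (0, 1) := by decide
      rcases hcases v with rfl | rfl | rfl | rfl
      · simp [F, K.ev_zero]
      · simp [F, K.ev_one.1]
      · simp [F, K.ev_one.2]
      · rw [K.ev_add, K.ev_one.1, K.ev_one.2]
        simp [F]
    have h1 := card_le_mul_of_fun C H (fun t => ⁅t, a⁆) F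
      (fun x hx => hF _ (h.comm_mem_E (hHT hx) ha))
      (fun x hx y hy => hinj x (hHT hx) y (hHT hy))
    have h2 : F.card ≤ 4 := Finset.card_le_four
    have h3 : Nat.card (sqGen H ⊓ C : Subgroup P) ≤ Nat.card (sqGen H) :=
      Subgroup.card_le_of_le inf_le_left
    calc Nat.card H ≤ 4 * Nat.card (H ⊓ C : Subgroup P) := h1.trans (Nat.mul_le_mul_right _ h2)
      _ ≤ 4 * (4 * Nat.card (sqGen H ⊓ C : Subgroup P)) := Nat.mul_le_mul_left _ hK4
      _ ≤ 16 * Nat.card (sqGen H) := by omega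
  · obtain ⟨g, hg, hgT⟩ := SetLike.not_le_iff_exists.mp hHT
    refine h.bound_of_fixed H (fun t => ⁅t, a⁆) {1, z} hg ?_ hinj ?_
    · intro t ht hgt
      have ht2 := ht.2
      have hu := h.comm_mem_E ht2 ha
      have hgt' : g * t * g⁻¹ ∈ T := h.normal_T.conj_mem t ht2 g
      have hfix : g * ⁅t, a⁆ * g⁻¹ = ⁅t, a⁆ := by
        have e1 : g * ⁅t, a⁆ * g⁻¹ = ⁅g * t * g⁻¹, g * a * g⁻¹⁆ := by
          simp only [commutatorElement_def]; group
        have hga : g * a * g⁻¹ * a⁻¹ ∈ h.E := by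
          rcases hgen _ (h.normal.conj_mem a ha g) with hx | hx
          · have haE : a ∈ h.E := by
              have := h.normal_E.conj_mem _ hx g⁻¹
              simpa [mul_assoc] using this
            exact Subgroup.mul_mem _ hx (Subgroup.inv_mem _ haE)
          · exact hx
        have e2 := h.comm_mul_right hgt' hga.1 ha
        rw [inv_mul_cancel_right, commutatorElement_eq_one_iff_mul_comm.mpr
          (h.E_commute hgt' hga), one_mul] at e2
        have e3 : g * t * g⁻¹ = ⁅g, t⁆ * t := by rw [commutatorElement_def, inv_mul_cancel_right]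
        rw [e1, e2, e3, h.comm_mul_left (h.C_le_T hgt) ht2 ha, h.mem_C_iff.mp hgt a ha, one_mul]
      obtain ⟨v, hv⟩ := K.ev_surj hu
      rw [← hv, K.conj_ev hgT] at hfix
      have hv' := K.ev_inj hfix
      have hcases : ∀ w : Vec, uni w = w → w = 0 ∨ w = (1, 0) := by decide
      rcases hcases v hv' with rfl | rfl <;> simp [← hv, K.ev_zero, K.ev_one.1]
    · have h2 : ({1, z} : Finset P).card ≤ 2 := Finset.card_le_two
      calc ({1, z} : Finset P).card * Nat.card (H ⊓ C : Subgroup P)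
          ≤ 2 * (4 * Nat.card (sqGen H ⊓ C : Subgroup P)) := Nat.mul_le_mul h2 hK4
        _ = _ := by ring

end Hyp

/-- An additive subgroup of maps of order above four is a hyperplane or everything. -/
theorem exists_dot (X : AddSubgroup Mat) (hX : 4 < Nat.card X) :
    ∃ f : Mat, ∀ m, m ∈ X ↔ dot f m = 0 := by
  classical
  have hc := X.card_mul_index
  rw [show Nat.card Mat = 16 by simp [Mat, Vec, Nat.card_eq_fintype_card]] at hc
  have hi : X.index ≤ 3 := by
    by_contra hi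
    have := Nat.mul_le_mul hX (Nat.not_le.mp hi)
    omega
  have hi0 : X.index ≠ 0 := by intro h0; rw [h0] at hc; simp at hc
  obtain hi1 | hi1 | hi1 : X.index = 1 ∨ X.index = 2 ∨ X.index = 3 := by omega
  · exact ⟨0, fun m => by simp [AddSubgroup.index_eq_one.mp hi1, dot_zero]⟩
  · let χ : Mat →+ ZMod 2 := AddMonoidHom.mk' (fun m => if m ∈ X then 0 else 1) fun x y => by
      have := AddSubgroup.add_mem_iff_of_index_two hi1 (a := x) (b := y)
      by_cases hx : x ∈ X <;> by_cases hy : y ∈ X <;> simp_all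
      decide
    have hχ : ∀ (i : ZMod 2) (m : Mat), χ (i.val • m) = i * χ m := fun i m => by
      rw [map_nsmul, nsmul_eq_mul, ZMod.natCast_zmod_val]
    refine ⟨((χ ((1, 0), (0, 0)), χ ((0, 1), (0, 0))), (χ ((0, 0), (1, 0)), χ ((0, 0), (0, 1)))),
      fun m => ?_⟩
    have hm : m = m.1.1.val • (((1, 0), (0, 0)) : Mat) + m.1.2.val • (((0, 1), (0, 0)) : Mat) +
        m.2.1.val • (((0, 0), (1, 0)) : Mat) + m.2.2.val • (((0, 0), (0, 1)) : Mat) := by
      revert m; decide
    have hd : χ m = dot ((χ ((1, 0), (0, 0)), χ ((0, 1), (0, 0))),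
        (χ ((0, 0), (1, 0)), χ ((0, 0), (0, 1)))) m := by
      conv_lhs => rw [hm]
      rw [map_add, map_add, map_add, hχ, hχ, hχ, hχ, dot]
      ring
    rw [← hd]
    show _ ↔ (if m ∈ X then (0 : ZMod 2) else 1) = 0
    by_cases hm' : m ∈ X <;> simp [hm']
  · rw [hi1] at hc; omega

namespace Co16

variable {h : Hyp A} {z e a b : P} (K : Co16 h z e a b)
include K

local notation "C" => Subgroup.centralizer (A : Set P)
local notation "T" => Subgroup.centralizer (h.E : Set P)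
local notation "ψ" => psi z e a b

theorem bound_not_le {H : Subgroup P} {g : P} (hg : g ∈ H) (hgT : g ∉ T) :
    Nat.card H ≤ 16 * Nat.card (sqGen H) := by
  classical
  have hfix : ∀ t ∈ H ⊓ T, ⁅g, t⁆ ∈ C →
      ψ t = 0 ∨ ψ t = nilN ∨ ψ t = idM ∨ ψ t = idM + nilN := by
    intro t ht hgt
    refine conjU_fixed _ ?_
    rw [← K.psi_conj hgT ht.2, show g * t * g⁻¹ = ⁅g, t⁆ * t by
      rw [commutatorElement_def, inv_mul_cancel_right], K.psi_mul (h.C_le_T hgt) ht.2,
      K.psi_of_mem_C hgt, zero_add]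
  have hinj : ∀ x ∈ T, ∀ y ∈ T, ψ x = ψ y → x⁻¹ * y ∈ C :=
    fun x hx y hy => K.inv_mul_mem_C hx hy
  have hK4 := h.card_inf_C_le H
  rcases h.contribution H with hc | hc
  · refine h.bound_of_fixed H ψ ({0, nilN, idM, idM + nilN} : Finset Mat) hg ?_ hinj ?_
    · intro t ht hgt
      rcases hfix t ht hgt with e1 | e1 | e1 | e1 <;> simp [e1]
    · exact (Nat.mul_le_mul Finset.card_le_four hc).trans_eq (by ring)
  have hsmall : ∀ F : Finset Mat, F.card ≤ 2 →
      (∀ t ∈ H ⊓ T, ⁅g, t⁆ ∈ C → ψ t ∈ F) → Nat.card H ≤ 16 * Nat.card (sqGen H) :=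
    fun F hF hf => h.bound_of_fixed H ψ F hg hf hinj
      ((Nat.mul_le_mul hF hK4).trans_eq (by ring))
  by_cases hN : ∃ n ∈ H ⊓ T, ψ n = nilN
  · by_cases hI : ∃ r ∈ H ⊓ T, Inv0 (ψ r)
    · obtain ⟨n, hn, hnN⟩ := hN
      obtain ⟨r, hr, hri⟩ := hI
      exact (K.no_inverting (h.comm_C_mem_E_of_invertible hr.2 (K.fix_of_inv0 hr.2 hri)).1 hn.2
        (hnN ▸ nilN_ne_zero) (hnN ▸ inv1_nilN) (fun _ _ => hnN ▸ conjU_nilN) (hc n hn)).elim
    · refine hsmall {0, nilN} Finset.card_le_two fun t ht hgt => ?_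
      rcases hfix t ht hgt with e1 | e1 | e1 | e1
      · simp [e1]
      · simp [e1]
      · exact absurd ⟨t, ht, e1 ▸ inv0_idM.1⟩ hI
      · exact absurd ⟨t, ht, e1 ▸ inv0_idM.2⟩ hI
  · by_cases h1 : ∃ r ∈ H ⊓ T, ψ r = idM
    · refine hsmall {0, idM} Finset.card_le_two fun t ht hgt => ?_
      rcases hfix t ht hgt with e1 | e1 | e1 | e1
      · simp [e1]
      · exact absurd ⟨t, ht, e1⟩ hN
      · simp [e1]
      · obtain ⟨r, hr, hr1⟩ := h1
        exact absurd ⟨r * t, Subgroup.mul_mem _ hr ht,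
          by rw [K.psi_mul hr.2 ht.2, hr1, e1, ← add_assoc, mat_add_self, zero_add]⟩ hN
    · refine hsmall {0, idM + nilN} Finset.card_le_two fun t ht hgt => ?_
      rcases hfix t ht hgt with e1 | e1 | e1 | e1
      · simp [e1]
      · exact absurd ⟨t, ht, e1⟩ hN
      · exact absurd ⟨t, ht, e1⟩ h1
      · simp [e1]

/-- The maps induced by the elements of a subgroup of `T`. -/
noncomputable def image (S : Subgroup P) (hS : S ≤ T) : AddSubgroup Mat where
  carrier := {m | ∃ t ∈ S, ψ t = m}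
  zero_mem' := ⟨1, S.one_mem, K.psi_one⟩
  add_mem' := fun {x y} ⟨s, hs, hsx⟩ ⟨t, ht, hty⟩ =>
    ⟨s * t, S.mul_mem hs ht, by rw [K.psi_mul (hS hs) (hS ht), hsx, hty]⟩
  neg_mem' := fun {x} ⟨s, hs, hsx⟩ =>
    ⟨s, hs, by rw [hsx, neg_eq_of_add_eq_zero_left (mat_add_self x)]⟩

theorem bound_of_image {H : Subgroup P} (hH : H ≤ T) (F : Finset Mat) (hF : ∀ t ∈ H, ψ t ∈ F)
    (hb : F.card * Nat.card (H ⊓ C : Subgroup P) ≤ 16 * Nat.card (sqGen H)) :
    Nat.card H ≤ 16 * Nat.card (sqGen H) :=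
  have := h.normal_C
  (card_le_mul_of_fun C H ψ F hF fun _ hx _ hy => K.inv_mul_mem_C (hH hx) (hH hy)).trans hb

theorem bound_le {H : Subgroup P} (hH : H ≤ T) : Nat.card H ≤ 16 * Nat.card (sqGen H) := by
  classical
  have := h.normal_C
  have hsS : Nat.card (sqGen H ⊓ C : Subgroup P) ≤ Nat.card (sqGen H) :=
    Subgroup.card_le_of_le inf_le_left
  have hK4 := h.card_inf_C_le H
  let X := K.image H hH
  by_cases hX4 : Nat.card X ≤ 4
  · refine K.bound_of_image hH (Finset.univ.filter (· ∈ X)) (fun t ht => by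
      simp only [Finset.mem_filter, Finset.mem_univ, true_and]
      exact ⟨t, ht, rfl⟩) ?_
    have hc : (Finset.univ.filter (· ∈ X)).card = Nat.card X := by
      rw [Nat.card_eq_fintype_card, Fintype.card_subtype]
    calc _ ≤ 4 * (4 * Nat.card (sqGen H ⊓ C : Subgroup P)) := Nat.mul_le_mul (hc ▸ hX4) hK4
      _ ≤ _ := by omega
  obtain ⟨f, hf⟩ := exists_dot X (by omega)
  let X0 := K.image T le_rfl
  have hXX0 : X ≤ X0 := fun m ⟨t, ht, hm⟩ => ⟨t, hH ht, hm⟩
  obtain ⟨f0, hf0⟩ := exists_dot X0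
    (lt_of_lt_of_le (not_le.mp hX4) (Nat.card_mono (Set.toFinite (X0 : Set Mat)) hXX0))
  -- `C/E` is abelian
  obtain ⟨r, hr, hr0⟩ := dot_kernel_exists_inv f
  obtain ⟨r', hr', hrr⟩ := (hf r).mpr hr
  have hCE := (h.comm_C_mem_E_of_invertible (hH hr') (K.fix_of_inv0 (hH hr') (hrr ▸ hr0))).1
  -- the case of a small contribution of `C`
  have hgood : f ≠ 0 → Nat.card (H ⊓ C : Subgroup P) ≤ 2 * Nat.card (sqGen H ⊓ C : Subgroup P) →
      Nat.card H ≤ 16 * Nat.card (sqGen H) := by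
    intro hf' hc
    refine K.bound_of_image hH (Finset.univ.filter fun m => dot f m = 0) (fun t ht => by
      simp only [Finset.mem_filter, Finset.mem_univ, true_and]
      exact (hf _).mp ⟨t, ht, rfl⟩) ?_
    rw [card_dot_kernel f hf']
    omega
  by_cases hf00 : f0 = 0
  · -- every map occurs, so `C = A`
    have hall : ∀ m : Mat, ∃ t ∈ T, ψ t = m := fun m => (hf0 m).mpr (hf00 ▸ dot_zero m)
    have hCA : (C : Subgroup P) = A := by
      refine le_antisymm ?_ h.le_C
      intro c hc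
      by_contra hcA
      have : ∀ n, ∀ c : P, orderOf c = n → c ∈ C → c ∉ A → ∃ d ∈ C, d ∉ A ∧ d ^ 2 ∈ A := by
        intro n
        induction n using Nat.strong_induction_on with
        | _ n ih =>
          intro c hn hc hcA
          by_cases h2 : c ^ 2 ∈ A
          · exact ⟨c, hc, hcA, h2⟩
          refine ih _ ?_ _ rfl (Subgroup.pow_mem _ hc 2) h2
          obtain ⟨k, hk⟩ := IsPGroup.iff_orderOf.mp h.pg c
          have hk0 : k ≠ 0 := by
            rintro rfl
            rw [pow_zero] at hk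
            exact hcA (orderOf_eq_one_iff.mp hk ▸ A.one_mem)
          have hg : Nat.gcd (2 ^ k) 2 = 2 := Nat.gcd_eq_right (dvd_pow_self 2 hk0)
          rw [orderOf_pow, ← hn, hk, hg]
          have : 0 < 2 ^ k := Nat.two_pow_pos k
          omega
      obtain ⟨d, hd, hdA, hd2⟩ := this _ c rfl hc hcA
      obtain ⟨v, hv⟩ := K.co.ev_surj (h.sq_mem_E hd2)
      have hv0 : v ≠ 0 := by
        rintro rfl
        rw [K.co.ev_zero, ← pow_mul] at hv
        exact hdA (h.mem d hd hv.symm)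
      obtain ⟨m, hm, hmv⟩ := exists_inv_moving v hv0
      obtain ⟨s, hs, hsm⟩ := hall m
      have hu := (h.comm_C_mem_E_of_invertible hs (K.fix_of_inv0 hs (hsm ▸ hm))).2 d hd
      refine hmv ?_
      rw [← hsm]
      apply K.co.ev_inj
      rw [← K.psi_spec hs hd2 hv.symm, hv]
      have e1 : s * d ^ 2 * s⁻¹ = (d ^ 2)⁻¹ := by
        have hc1 : Commute (s * d * s⁻¹ * d) d⁻¹ :=
          (h.C_commute (Subgroup.inv_mem _ hd) hu.1).symm
        calc s * d ^ 2 * s⁻¹ = (s * d * s⁻¹ * d * d⁻¹) ^ 2 := by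
              rw [mul_inv_cancel_right, conj_pow]
          _ = (d ^ 2)⁻¹ := by rw [hc1.mul_pow, hu.2, one_mul, inv_pow]
      rw [commutatorElement_def, e1, ← mul_inv_rev, ← pow_two]
      exact h.inv_eq_of_mem_E (h.sq_mem_E hd2)
    have hsqA : ∀ t ∈ T, t ^ 2 ∈ A := fun t ht => hCA ▸ h.sq_mem_C ht
    have hcA : ∀ s ∈ T, ∀ t ∈ T, ⁅s, t⁆ ∈ A := fun s hs t ht => hCA ▸ h.comm_mem_C hs ht
    let q : P → Vec := fun t => Function.invFun (ev z e) ((t ^ 2) ^ 2)
    let l : P → P → Vec := fun s t => Function.invFun (ev z e) (⁅s, t⁆ ^ 2)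
    have hq : ∀ t ∈ T, ev z e (q t) = (t ^ 2) ^ 2 := fun t ht =>
      K.co.ev_invFun (h.sq_mem_E (hsqA t ht))
    have hl : ∀ s ∈ T, ∀ t ∈ T, ev z e (l s t) = ⁅s, t⁆ ^ 2 := fun s hs t ht =>
      K.co.ev_invFun (h.sq_mem_E (hcA s hs t ht))
    have hker : ∀ t ∈ T, ap (ψ t) (q t) = 0 := by
      intro t ht
      rw [← K.co.ev_eq_one_iff, ← K.psi_spec ht (hsqA t ht) (hq t ht).symm,
        commutatorElement_eq_one_iff_mul_comm]
      exact ((Commute.refl t).pow_right 2).eq
    have hqmul : ∀ s ∈ T, ∀ t ∈ T, q (s * t) = q s + q t + l t s := by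
      intro s hs t ht
      apply K.co.ev_inj
      rw [hq _ (Subgroup.mul_mem _ hs ht), K.co.ev_add, K.co.ev_add, hq s hs, hq t ht, hl t ht s hs]
      set c := ⁅t, s⁆ with hc
      have hcA' : c ∈ A := hcA t ht s hs
      have hu : ⁅s, c⁆ ∈ h.E := h.comm_mem_E hs hcA'
      have e1 : (s * t) ^ 2 = ⁅s, c⁆ * c * s ^ 2 * t ^ 2 := by
        simp only [hc, commutatorElement_def, pow_two, mul_assoc, inv_mul_cancel_left,
          inv_mul_cancel, mul_one]
      have m1 := h.sq_mem_E (hsqA s hs)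
      rw [e1, Commute.mul_pow (h.comm _ (A.mul_mem (A.mul_mem hu.1 hcA') (hsqA s hs)) _ (hsqA t ht)),
        Commute.mul_pow (h.comm _ (A.mul_mem hu.1 hcA') _ (hsqA s hs)),
        Commute.mul_pow (h.comm _ hu.1 _ hcA'), hu.2, one_mul,
        h.comm _ (A.pow_mem hcA' 2) _ m1.1, mul_assoc, mul_assoc,
        h.comm _ (A.pow_mem hcA' 2) _ (A.pow_mem (hsqA t ht) 2)]
    have hlmul : ∀ u ∈ T, ∀ s ∈ T, ∀ t ∈ T, l (s * t) u = l s u + l t u := by
      intro u hu s hs t ht
      apply K.co.ev_inj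
      rw [hl _ (Subgroup.mul_mem _ hs ht) u hu, K.co.ev_add, hl s hs u hu, hl t ht u hu]
      have hc1 := hcA t ht u hu
      have hc2 := hcA s hs u hu
      have e1 : ⁅s * t, u⁆ = ⁅s, ⁅t, u⁆⁆ * ⁅t, u⁆ * ⁅s, u⁆ := by
        simp only [commutatorElement_def]; group
      have he1 := h.comm_mem_E hs hc1
      rw [e1, Commute.mul_pow (h.comm _ (A.mul_mem he1.1 hc1) _ hc2),
        Commute.mul_pow (h.comm _ he1.1 _ hc1), he1.2, one_mul,
        h.comm _ (A.pow_mem hc1 2) _ (A.pow_mem hc2 2)]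
    have hqN : ∀ n ∈ T, ψ n = nilN → q n = (1, 0) := by
      intro n hn hnN
      refine ap_nilN_eq_zero _ (hnN ▸ hker n hn) fun hn0 => ?_
      have h4 := hq n hn
      rw [hn0, K.co.ev_zero] at h4
      obtain ⟨w, hw⟩ := K.co.ev_surj (show n ^ 2 ∈ h.E from ⟨hsqA n hn, h4.symm⟩)
      obtain ⟨x, hx, hx2⟩ := K.exists_sq w
      exact K.no_inverting hCE hn (hnN ▸ nilN_ne_zero) (hnN ▸ inv1_nilN)
        (fun _ _ => hnN ▸ conjU_nilN) (by rw [← hw, ← hx2]; exact sq_mem_sqGen (h.le_C hx))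
    by_cases hff : f = 0
    · -- every map is induced by `H`
      have hallH : ∀ m : Mat, ∃ t ∈ H, ψ t = m := fun m => (hf m).mpr (hff ▸ dot_zero m)
      suffices hAS : A ≤ sqGen H by
        refine K.bound_of_image hH Finset.univ (fun _ _ => Finset.mem_univ _) ?_
        refine Nat.mul_le_mul (by simp [Mat, Vec]) (Subgroup.card_le_of_le ?_)
        rw [hCA]
        exact inf_le_right.trans hAS
      by_contra hAS
      -- the squares in `sqGen H ⊓ A` miss some element of `E`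
      let W : AddSubgroup Vec :=
        { carrier := {v | ∃ y ∈ sqGen H ⊓ A, y ^ 2 = ev z e v}
          zero_mem' := ⟨1, Subgroup.one_mem _, by rw [K.co.ev_zero, one_pow]⟩
          add_mem' := fun {v w} ⟨x, hx, hxv⟩ ⟨y, hy, hyw⟩ => ⟨x * y, Subgroup.mul_mem _ hx hy, by
            rw [Commute.mul_pow (h.comm _ hx.2 _ hy.2), hxv, hyw, K.co.ev_add]⟩
          neg_mem' := fun {v} hv => by
            rw [neg_eq_of_add_eq_zero_left (vec_add_self v)]; exact hv }
      have hW : ∀ t ∈ H, q t ∈ W := fun t ht =>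
        ⟨t ^ 2, ⟨sq_mem_sqGen ht, hsqA t (hH ht)⟩, (hq t (hH ht)).symm⟩
      have hWtop : ¬ ∀ v, v ∈ W := by
        intro hall'
        have hE : ∀ x ∈ h.E, x ∈ sqGen H := by
          intro x hx
          obtain ⟨v, rfl⟩ := K.co.ev_surj hx
          obtain ⟨y, hy, hyv⟩ := hall' v
          exact hyv ▸ Subgroup.pow_mem _ hy.1 2
        refine hAS fun x hx => ?_
        obtain ⟨v, hv⟩ := K.co.ev_surj (h.sq_mem_E hx)
        obtain ⟨y, hy, hyv⟩ := hall' v
        have hxy : x * y⁻¹ ∈ h.E := by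
          refine ⟨A.mul_mem hx (A.inv_mem hy.2), ?_⟩
          rw [Commute.mul_pow (h.comm _ hx _ (A.inv_mem hy.2)), inv_pow, hyv, hv, mul_inv_cancel]
        have := Subgroup.mul_mem _ (hE _ hxy) hy.1
        rwa [inv_mul_cancel_right] at this
      obtain ⟨n, hn, hnN⟩ := hallH nilN
      have hqn := hqN n (hH hn) hnN
      have hline : ∀ t ∈ H, q t = 0 ∨ q t = (1, 0) := by
        intro t ht
        by_contra hne
        rw [not_or] at hne
        refine hWtop fun v => ?_
        rcases vec_span (q t) (1, 0) v hne.1 (by decide) hne.2 with rfl | rfl | rfl | rfl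
        · exact W.zero_mem
        · exact hW t ht
        · exact hqn ▸ hW n hn
        · exact W.add_mem (hW t ht) (hqn ▸ hW n hn)
      have hz0 : ∀ t ∈ H, (ψ t).1 ≠ 0 → q t = 0 := by
        intro t ht hne
        refine (hline t ht).resolve_right fun he' => hne ?_
        have := hker t (hH ht)
        rw [he'] at this
        simpa [ap] using this
      obtain ⟨x, hx, hxm⟩ := hallH ((1, 0), (0, 0))
      obtain ⟨y, hy, hym⟩ := hallH ((0, 1), (0, 0))
      have hxy := H.mul_mem hx hy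
      have key : ∀ t ∈ H, (ψ t).1 ≠ 0 → (ψ (n * t)).1 ≠ 0 → l t n = (1, 0) := by
        intro t ht h1 h2
        have e1 := hqmul n (hH hn) t (hH ht)
        rw [hz0 _ (H.mul_mem hn ht) h2, hz0 t ht h1, hqn, add_zero] at e1
        exact ((eq_add_of_add_eq _ _ _ e1.symm).trans (add_zero _))
      have hx1 : (ψ (x * y)).1 ≠ 0 := by
        rw [K.psi_mul (hH hx) (hH hy), hxm, hym]; decide
      have k1 := key x hx (by rw [hxm]; decide)
        (by rw [K.psi_mul (hH hn) (hH hx), hnN, hxm]; decide)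
      have k2 := key y hy (by rw [hym]; decide)
        (by rw [K.psi_mul (hH hn) (hH hy), hnN, hym]; decide)
      have k3 := key (x * y) hxy hx1
        (by rw [K.psi_mul (hH hn) (hH hxy), K.psi_mul (hH hx) (hH hy), hnN, hxm, hym]; decide)
      rw [hlmul n (hH hn) x (hH hx) y (hH hy), k1, k2, vec_add_self] at k3
      exact absurd k3 (by decide)
    · -- a hyperplane
      rcases h.contribution H with hc | hc
      · exact hgood hff hc
      exfalso
      have hq0 : ∀ t ∈ H, q t = 0 := by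
        intro t ht
        apply K.co.ev_inj
        rw [hq t (hH ht), K.co.ev_zero]
        have hle : sqGen (C : Subgroup P) ≤ h.E := by
          rw [hCA]
          exact sqGen_le_iff.mpr fun x hx => h.sq_mem_E hx
        exact (hle (hc t ⟨ht, hH ht⟩)).2
      by_cases hfN : dot f nilN = 0
      · obtain ⟨n, hn, hnN⟩ := (hf nilN).mpr hfN
        exact absurd ((hq0 n hn).symm.trans (hqN n (hH hn) hnN)) (by decide)
      have hf21 : f.2.1 = 1 := by
        have : f.2.1 ≠ 0 := by simpa [dot, nilN] using hfN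
        revert this
        generalize f.2.1 = i
        revert i
        decide
      obtain ⟨n, hn, hnN⟩ := hall nilN
      have hmem : ∀ c1 c2 c3 : ZMod 2,
          ((c1, c2), (c1 * f.1.1 + c2 * f.1.2 + c3 * f.2.2, c3)) ∈ X := by
        intro c1 c2 c3
        rw [hf, dot, hf21]
        generalize f.1.1 = p, f.1.2 = q', f.2.2 = r'
        revert c1 c2 c3 p q' r'
        decide
      obtain ⟨x1, hx1, hm1⟩ := hmem 1 0 0
      obtain ⟨x2, hx2, hm2⟩ := hmem 0 1 0
      obtain ⟨x3, hx3, hm3⟩ := hmem 0 0 1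
      obtain ⟨c1, c2, c3, hne⟩ :=
        hyperplane_no_linear f.1.1 f.1.2 f.2.2 (l x1 n) (l x2 n) (l x3 n)
      refine hne ?_
      set t := x1 ^ c1.val * x2 ^ c2.val * x3 ^ c3.val with ht
      have htH : t ∈ H := H.mul_mem (H.mul_mem (H.pow_mem hx1 _) (H.pow_mem hx2 _)) (H.pow_mem hx3 _)
      have hl1 : l 1 n = 0 := by
        apply K.co.ev_inj
        rw [hl 1 (Subgroup.one_mem _) n hn, commutatorElement_one_left, one_pow, K.co.ev_zero]
      have hpow : ∀ x ∈ H, ∀ c : ZMod 2, ψ (x ^ c.val) = (if c = 0 then 0 else ψ x) ∧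
          l (x ^ c.val) n = (if c = 0 then 0 else l x n) := by
        intro x _ c
        rcases (by revert c; decide : c = 0 ∨ c = 1) with rfl | rfl <;>
          simp [K.psi_one, hl1, ZMod.val_one]
      have hpsi : ψ t = ((c1, c2), (c1 * f.1.1 + c2 * f.1.2 + c3 * f.2.2, c3)) := by
        rw [ht, K.psi_mul (hH (H.mul_mem (H.pow_mem hx1 _) (H.pow_mem hx2 _)))
          (hH (H.pow_mem hx3 _)), K.psi_mul (hH (H.pow_mem hx1 _)) (hH (H.pow_mem hx2 _)),
          (hpow x1 hx1 c1).1, (hpow x2 hx2 c2).1, (hpow x3 hx3 c3).1, hm1, hm2, hm3]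
        exact combination_mat c1 c2 c3 _ _ _
      have hlt : l t n = (c1 * (l x1 n).1 + c2 * (l x2 n).1 + c3 * (l x3 n).1,
          c1 * (l x1 n).2 + c2 * (l x2 n).2 + c3 * (l x3 n).2) := by
        rw [ht, hlmul n hn _ (hH (H.mul_mem (H.pow_mem hx1 _) (H.pow_mem hx2 _))) _
          (hH (H.pow_mem hx3 _)), hlmul n hn _ (hH (H.pow_mem hx1 _)) _ (hH (H.pow_mem hx2 _)),
          (hpow x1 hx1 c1).2, (hpow x2 hx2 c2).2, (hpow x3 hx3 c3).2]
        exact combination_vec c1 c2 c3 _ _ _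
      have := hker (n * t) (Subgroup.mul_mem _ hn (hH htH))
      rw [K.psi_mul hn (hH htH), hqmul n hn t (hH htH), hnN, hqN n hn hnN, hq0 t htH, add_zero,
        hpsi, hlt] at this
      exact this
  · -- the maps induced by `T` form the hyperplane of `H`
    have hff : f = f0 :=
      dot_kernel_le f f0 hf00 fun m hm => (hf0 m).mp (hXX0 ((hf m).mpr hm))
    rcases h.contribution H with hc | hc
    · exact hgood (hff ▸ hf00) hc
    exfalso
    obtain ⟨m, hm, hm0, hm1, hmfix⟩ : ∃ m, dot f m = 0 ∧ m ≠ 0 ∧ Inv1 m ∧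
        ∀ g : P, g ∉ T → conjU m = m := by
      by_cases hPT : ∀ g : P, g ∈ T
      · obtain ⟨m, h1, h2, h3⟩ := dot_kernel_exists_inv1 f
        exact ⟨m, h1, h2, h3, fun g hg => absurd (hPT g) hg⟩
      · obtain ⟨g, hg⟩ := not_forall.mp hPT
        refine ⟨nilN, ?_, nilN_ne_zero, inv1_nilN, fun _ _ => conjU_nilN⟩
        rw [hff]
        refine dot_invariant f0 hf00 fun m hm => ?_
        obtain ⟨t, ht, rfl⟩ := (hf0 m).mpr hm
        rw [← K.psi_conj hg ht]
        exact (hf0 _).mp ⟨_, h.normal_T.conj_mem t ht g, rfl⟩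
    obtain ⟨s, hs, rfl⟩ := (hf m).mpr hm
    exact K.no_inverting hCE (hH hs) hm0 hm1 hmfix (hc s ⟨hs, hH hs⟩)

theorem bound (H : Subgroup P) : Nat.card H ≤ 16 * Nat.card (sqGen H) := by
  by_cases hH : H ≤ T
  · exact K.bound_le hH
  · obtain ⟨g, hg, hgT⟩ := SetLike.not_le_iff_exists.mp hH
    exact K.bound_not_le hg hgT

end Co16

namespace Hyp

variable (h : Hyp A)
include h

/-- Every subgroup has order at most sixteen times that of the subgroup its squares generate. -/
theorem bound (H : Subgroup P) : Nat.card H ≤ 16 * Nat.card (sqGen H) := by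
  classical
  have : Fact (Nat.Prime 2) := ⟨Nat.prime_two⟩
  by_cases hA4 : Nat.card A ≤ 4
  · exact h.bound_of_card_le_four hA4 H
  let S : A →* P := MonoidHom.mk' (fun x => (x : P) ^ 2) fun x y =>
    Commute.mul_pow (show Commute (x : P) y from h.comm _ x.2 _ y.2) 2
  have hSr : S.range ≤ h.E := by
    rintro _ ⟨x, rfl⟩
    exact h.sq_mem_E x.2
  have hSk : Nat.card S.ker = Nat.card h.E := Nat.card_congr
    { toFun := fun x => ⟨x.1.1, x.1.2, x.2⟩
      invFun := fun x => ⟨⟨x.1, x.2.1⟩, x.2.2⟩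
      left_inv := fun _ => rfl
      right_inv := fun _ => rfl }
  have hcard : Nat.card A = Nat.card h.E * Nat.card S.range := by
    rw [← hSk, ← Subgroup.index_ker, Subgroup.card_mul_index]
  obtain ⟨k, hk⟩ := IsPGroup.iff_card.mp (h.pg.to_subgroup h.E)
  obtain ⟨j, hj⟩ := IsPGroup.iff_card.mp (h.pg.to_subgroup S.range)
  have hj' := Subgroup.card_le_of_le hSr
  have hk4 := h.card_E_le
  rw [hk] at hk4
  rw [hj, hk] at hj'
  have hk2 : k ≤ 2 := (Nat.pow_le_pow_iff_right (a := 2) (by norm_num)).mp hk4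
  have hjk : j ≤ k := (Nat.pow_le_pow_iff_right (a := 2) (by norm_num)).mp hj'
  rw [hk, hj] at hcard
  obtain ⟨hk', hj1⟩ : k = 2 ∧ (j = 1 ∨ j = 2) := by
    interval_cases k <;> interval_cases j <;> simp_all
  subst hk'
  have hE4 : Nat.card h.E = 4 := hk
  have hEne : h.E ≠ ⊥ := by
    intro hb
    rw [hb, Subgroup.card_bot] at hE4
    omega
  have hex : ∀ z ∈ h.E, ∃ e ∈ h.E, e ≠ 1 ∧ e ≠ z := by
    intro z _
    by_contra! hno
    have : Nat.card h.E ≤ ({1, z} : Finset P).card := by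
      rw [← Nat.card_eq_finsetCard]
      refine Nat.card_le_card_of_injective (fun x => ⟨(x : P), ?_⟩) fun x y e' =>
        Subtype.ext (congrArg (fun w : ({1, z} : Finset P) => (w : P)) e')
      by_cases h1 : (x : P) = 1
      · simp [h1]
      · simp [hno x x.2 h1]
    have := this.trans Finset.card_le_two
    omega
  rcases hj1 with rfl | rfl
  · -- order eight
    obtain ⟨a, ha, ha1⟩ : ∃ a ∈ A, a ^ 2 ≠ 1 := by
      by_contra! hno
      have : Nat.card A ≤ Nat.card h.E := Subgroup.card_le_of_le fun x hx => ⟨hx, hno x hx⟩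
      omega
    have hr2 : ∀ x ∈ S.range, x = 1 ∨ x = a ^ 2 := by
      intro x hx
      by_contra hne
      rw [not_or] at hne
      have hs : ({⟨1, S.range.one_mem⟩, ⟨a ^ 2, ⟨a, ha⟩, rfl⟩, ⟨x, hx⟩} :
          Finset S.range).card = 3 := Finset.card_eq_three.mpr ⟨_, _, _,
            fun e' => ha1 (congrArg Subtype.val e').symm,
            fun e' => hne.1 (congrArg Subtype.val e').symm,
            fun e' => hne.2 (congrArg Subtype.val e').symm, rfl⟩
      have := Fintype.ofFinite S.range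
      have hle := Finset.card_le_univ
        ({⟨1, S.range.one_mem⟩, ⟨a ^ 2, ⟨a, ha⟩, rfl⟩, ⟨x, hx⟩} : Finset S.range)
      rw [hs, ← Nat.card_eq_fintype_card, hj] at hle
      omega
    have hzc : ∀ g : P, g * a ^ 2 = a ^ 2 * g := by
      intro g
      have hgz : g * a ^ 2 * g⁻¹ ∈ S.range :=
        ⟨⟨g * a * g⁻¹, h.normal.conj_mem a ha g⟩, (conj_pow : (g * a * g⁻¹) ^ 2 = g * a ^ 2 * g⁻¹)⟩
      rcases hr2 _ hgz with e1 | e1
      · exact absurd (conj_eq_one_iff.mp e1) ha1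
      · exact mul_inv_eq_iff_eq_mul.mp e1
    obtain ⟨e, he, he1, hez⟩ := hex _ (h.sq_mem_E ha)
    refine h.bound_card_eight ⟨h.sq_mem_E ha, he, hzc, ha1, he1, hez, hE4⟩ ha (fun x hx => ?_) H
    rcases hr2 _ ⟨⟨x, hx⟩, rfl⟩ with e1 | e1
    · exact Or.inl ⟨hx, e1⟩
    · refine Or.inr ⟨A.mul_mem hx (A.inv_mem ha), ?_⟩
      change x ^ 2 = a ^ 2 at e1
      rw [Commute.mul_pow (h.comm _ hx _ (A.inv_mem ha)), inv_pow, e1, mul_inv_cancel]
  · -- order sixteen
    have hsurj : S.range = h.E := Subgroup.eq_of_le_of_card_ge hSr (by rw [hE4, hj]; norm_num)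
    have := h.normal_E
    obtain ⟨Z, hZE, hZc, -, hZ⟩ := PGroups.exists_central_card_prime h.pg h.E hEne
    have hZne : Z ≠ ⊥ := by
      intro hb
      rw [hb, Subgroup.card_bot] at hZ
      omega
    obtain ⟨z, hz, hz1⟩ := Z.bot_or_exists_ne_one.resolve_left hZne
    obtain ⟨e, he, he1, hez⟩ := hex z (hZE hz)
    obtain ⟨a, ha⟩ : z ∈ S.range := hsurj ▸ hZE hz
    obtain ⟨b, hb⟩ : e ∈ S.range := hsurj ▸ he
    exact Co16.bound
      ({ co := ⟨hZE hz, he, Subgroup.mem_center_iff.mp (hZc hz), hz1, he1, hez, hE4⟩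
         ha := a.2, hb := b.2, ha2 := ha, hb2 := hb, hA := by rw [hcard]; norm_num } :
        Co16 h z e a b) H

end Hyp

/-- MacWilliams' theorem. -/
theorem sectionalPRankLE_four {P : Type*} [Group P] [Finite P] (hP : IsPGroup 2 P)
    (h : ∀ A : Subgroup P, A.Normal → IsMulCommutative A → (∀ a ∈ A, a ^ 2 = 1) → Nat.card A ≤ 4) :
    Cfsg.SectionalPRankLE 2 4 P := by
  obtain ⟨A, hA⟩ := exists_hyp hP h
  exact sectionalPRankLE_two_of_card_le fun H => hA.bound H

end Cfsg.Agent.Lib.NormalRankTwo
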