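import Mathlib.Data.ZMod.Basic
import Mathlib.Data.Fintype.Prod
import Mathlib.Data.Fintype.Pi

/-!
# Facts about pairs of vectors of the plane over the field with two elements
-/

set_option autoImplicit false
set_option synthInstance.maxSize 2000
set_option synthInstance.maxHeartbeats 200000

namespace Cfsg.Agent.Lib.NormalRankTwo

/-- The plane over the field with two elements. -/
abbrev Vec : Type := ZMod 2 × ZMod 2

/-- Linear maps of the plane, given by the images of the two basis vectors. -/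
abbrev Mat : Type := Vec × Vec

/-- Application of a map given by two columns. -/
def ap (m : Mat) (v : Vec) : Vec :=
  (v.1 * m.1.1 + v.2 * m.2.1, v.1 * m.1.2 + v.2 * m.2.2)

/-- The unipotent map fixing the first basis vector. -/
def uni (v : Vec) : Vec := (v.1 + v.2, v.2)

/-- Conjugation by the unipotent map. -/
def conjU (m : Mat) : Mat := (uni m.1, uni m.1 + uni m.2)

/-- The nilpotent map sending the second basis vector to the first. -/
def nilN : Mat := ((0, 0), (1, 0))

/-- The identity. -/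
def idM : Mat := ((1, 0), (0, 1))

/-- The map has trivial kernel. -/
abbrev Inv0 (m : Mat) : Prop := ∀ v : Vec, ap m v = 0 → v = 0

/-- The sum with the identity has trivial kernel. -/
abbrev Inv1 (m : Mat) : Prop := ∀ v : Vec, ap m v = v → v = 0

/-- The standard pairing on maps. -/
def dot (f m : Mat) : ZMod 2 :=
  f.1.1 * m.1.1 + f.1.2 * m.1.2 + f.2.1 * m.2.1 + f.2.2 * m.2.2


theorem vec_add_self : ∀ v : Vec, v + v = 0 := by decide +kernel

theorem mat_add_self : ∀ m : Mat, m + m = 0 := by decide +kernel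

theorem vec_span : ∀ v w u : Vec, v ≠ 0 → w ≠ 0 → v ≠ w → u = 0 ∨ u = v ∨ u = w ∨ u = v + w := by
  decide +kernel

theorem eq_add_of_add_eq : ∀ x y w : Vec, x + y = w → y = x + w := by decide +kernel

theorem conjU_fixed : ∀ m : Mat, conjU m = m →
    m = 0 ∨ m = nilN ∨ m = idM ∨ m = idM + nilN := by decide +kernel

theorem conjU_nilN : conjU nilN = nilN := by decide +kernel

theorem inv1_nilN : Inv1 nilN := by decide +kernel

theorem inv0_idM : Inv0 idM ∧ Inv0 (idM + nilN) := by decide +kernel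

theorem nilN_ne_zero : nilN ≠ 0 := by decide +kernel

theorem ap_nilN_eq_zero : ∀ v : Vec, ap nilN v = 0 → v ≠ 0 → v = (1, 0) := by decide +kernel

theorem dot_kernel_exists_inv : ∀ f : Mat, ∃ m, dot f m = 0 ∧ Inv0 m := by decide +kernel

theorem dot_kernel_exists_inv1 : ∀ f : Mat, ∃ m, dot f m = 0 ∧ m ≠ 0 ∧ Inv1 m := by
  decide +kernel

theorem dot_invariant : ∀ f : Mat, f ≠ 0 → (∀ m, dot f m = 0 → dot f (conjU m) = 0) →
    dot f nilN = 0 := by decide +kernel

theorem dot_kernel_le : ∀ f f' : Mat, f' ≠ 0 → (∀ m, dot f m = 0 → dot f' m = 0) → f = f' := by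
  decide +kernel

theorem dot_zero : ∀ m : Mat, dot 0 m = 0 := by decide +kernel

theorem card_dot_kernel : ∀ f : Mat, f ≠ 0 →
    (Finset.univ.filter fun m : Mat => dot f m = 0).card = 8 := by decide +kernel

theorem exists_inv_moving : ∀ v : Vec, v ≠ 0 → ∃ m, Inv0 m ∧ ap m v ≠ v := by decide +kernel

theorem combination_mat : ∀ c1 c2 c3 p q r : ZMod 2,
    (((if c1 = 0 then 0 else ((1, 0), (1 * p + 0 * q + 0 * r, 0))) +
      if c2 = 0 then 0 else ((0, 1), (0 * p + 1 * q + 0 * r, 0))) +
      if c3 = 0 then 0 else ((0, 0), (0 * p + 0 * q + 1 * r, 1)) : Mat) =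
      ((c1, c2), (c1 * p + c2 * q + c3 * r, c3)) := by decide +kernel

theorem combination_vec : ∀ (c1 c2 c3 : ZMod 2) (u1 u2 u3 : Vec),
    (((if c1 = 0 then 0 else u1) + if c2 = 0 then 0 else u2) + if c3 = 0 then 0 else u3 : Vec) =
      (c1 * u1.1 + c2 * u2.1 + c3 * u3.1, c1 * u1.2 + c2 * u2.2 + c3 * u3.2) := by decide +kernel

/-- No linear map on a hyperplane missing `nilN` satisfies the kernel condition. -/
theorem hyperplane_no_linear : ∀ (p q r : ZMod 2) (l1 l2 l3 : Vec),
    ∃ c1 c2 c3 : ZMod 2,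
      ap (nilN + ((c1, c2), (c1 * p + c2 * q + c3 * r, c3)))
        ((1, 0) + ((c1 * l1.1 + c2 * l2.1 + c3 * l3.1, c1 * l1.2 + c2 * l2.2 + c3 * l3.2) : Vec))
        ≠ 0 := by decide +kernel

end Cfsg.Agent.Lib.NormalRankTwo
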