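import Cfsg.Agent.Lib.NormalRankTwo.Inversion
import Cfsg.Agent.Lib.NormalRankTwo.Decide

/-!
# Coordinates on `E` and the action of `C_P(E)` on `A/E`
-/

set_option autoImplicit false
set_option linter.unusedSectionVars false

namespace Cfsg.Agent.Lib.NormalRankTwo

open Subgroup
open scoped commutatorElement

variable {P : Type*} [Group P] {A : Subgroup P}

/-- The element with coordinates `v` with respect to two commuting involutions. -/
def ev (z e : P) (v : Vec) : P := z ^ v.1.val * e ^ v.2.val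

/-- A basis of `E` whose first member is central in `P`. -/
structure Co (h : Hyp A) (z e : P) : Prop where
  hz : z ∈ h.E
  he : e ∈ h.E
  zc : ∀ g : P, g * z = z * g
  z1 : z ≠ 1
  e1 : e ≠ 1
  ez : e ≠ z
  hE : Nat.card h.E = 4

namespace Co

variable {h : Hyp A} {z e : P} (K : Co h z e)
include K

local notation "C" => Subgroup.centralizer (A : Set P)
local notation "T" => Subgroup.centralizer (h.E : Set P)

theorem ev_zero : ev z e 0 = 1 := by simp [ev]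

theorem ev_one : ev z e (1, 0) = z ∧ ev z e (0, 1) = e := by simp [ev, ZMod.val_one]

theorem ev_mem (v : Vec) : ev z e v ∈ h.E :=
  Subgroup.mul_mem _ (Subgroup.pow_mem _ K.hz _) (Subgroup.pow_mem _ K.he _)

theorem ev_add (v w : Vec) : ev z e (v + w) = ev z e v * ev z e w := by
  have hpow : ∀ {x : P}, x ∈ h.E → ∀ i j : ZMod 2, x ^ (i + j).val = x ^ i.val * x ^ j.val := by
    intro x hx i j
    rw [← pow_add, ZMod.val_add, ← pow_eq_pow_mod _ hx.2]
  show z ^ (v.1 + w.1).val * e ^ (v.2 + w.2).val = _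
  rw [hpow K.hz, hpow K.he]
  exact (Commute.pow_pow (show Commute z e from (K.zc e).symm) _ _).mul_mul_mul_comm _ _

theorem ev_inj : Function.Injective (ev z e) := by
  intro v w hvw
  have h0 : ∀ u : Vec, ev z e u = 1 → u = 0 := by
    intro u hu
    have hcases : ∀ w : Vec, w = 0 ∨ w = (1, 0) ∨ w = (0, 1) ∨ w = (1, 0) + (0, 1) := by decide
    rcases hcases u with rfl | rfl | rfl | rfl
    · rfl
    · exact absurd (K.ev_one.1 ▸ hu) K.z1
    · exact absurd (K.ev_one.2 ▸ hu) K.e1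
    · rw [K.ev_add, K.ev_one.1, K.ev_one.2] at hu
      refine absurd ?_ K.ez
      rw [eq_inv_of_mul_eq_one_right hu, h.inv_eq_of_mem_E K.hz]
  have : ev z e (v + w) = 1 := by
    rw [K.ev_add, hvw, ← pow_two]
    exact (K.ev_mem w).2
  have := h0 _ this
  calc v = v + (w + w) := by rw [vec_add_self, add_zero]
    _ = w := by rw [← add_assoc, this, zero_add]

theorem ev_surj [Finite P] {x : P} (hx : x ∈ h.E) : ∃ v, ev z e v = x := by
  let φ : Vec → h.E := fun v => ⟨ev z e v, K.ev_mem v⟩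
  have hφ : Function.Injective φ := fun v w e' => K.ev_inj (congrArg Subtype.val e')
  obtain ⟨v, hv⟩ :=
    (hφ.bijective_of_nat_card_le (by rw [K.hE]; simp [Vec, Nat.card_eq_fintype_card])).2
      ⟨x, hx⟩
  exact ⟨v, congrArg Subtype.val hv⟩

theorem ev_invFun [Finite P] {x : P} (hx : x ∈ h.E) : ev z e (Function.invFun (ev z e) x) = x :=
  Function.invFun_eq (K.ev_surj hx)

theorem ev_eq_one_iff {v : Vec} : ev z e v = 1 ↔ v = 0 :=
  ⟨fun hv => K.ev_inj (hv.trans K.ev_zero.symm), fun hv => hv ▸ K.ev_zero⟩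

theorem conj_ev [Finite P] {g : P} (hg : g ∉ T) (v : Vec) :
    g * ev z e v * g⁻¹ = ev z e (uni v) := by
  have hge : g * e * g⁻¹ = z * e := by
    obtain ⟨w, hw⟩ := K.ev_surj (h.normal_E.conj_mem e K.he g)
    have hcases : ∀ u : Vec, u = 0 ∨ u = (1, 0) ∨ u = (0, 1) ∨ u = (1, 0) + (0, 1) := by decide
    rcases hcases w with rfl | rfl | rfl | rfl
    · rw [K.ev_zero] at hw
      exact absurd (conj_eq_one_iff.mp hw.symm) K.e1
    · rw [K.ev_one.1] at hw
      refine absurd ?_ K.ez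
      calc e = g⁻¹ * (g * e * g⁻¹) * g := by group
        _ = z := by rw [← hw, mul_assoc, ← K.zc g, inv_mul_cancel_left]
    · rw [K.ev_one.2, eq_mul_inv_iff_mul_eq] at hw
      refine absurd ?_ hg
      intro x hx
      obtain ⟨u, rfl⟩ := K.ev_surj hx
      exact ((Commute.pow_right (show Commute g z from K.zc g) _).mul_right
        (Commute.pow_right (show Commute g e from hw.symm) _)).eq.symm
    · rw [← hw, K.ev_add, K.ev_one.1, K.ev_one.2]
  have hgz : g * z * g⁻¹ = z := by rw [K.zc g, mul_inv_cancel_right]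
  rw [ev, ← MulAut.conj_apply, map_mul, map_pow, map_pow, MulAut.conj_apply, MulAut.conj_apply,
    hgz, hge, (show Commute z e from (K.zc e).symm).mul_pow, ← mul_assoc, ← pow_add]
  show _ = z ^ (v.1 + v.2).val * e ^ v.2.val
  rw [ZMod.val_add, ← pow_eq_pow_mod _ K.hz.2]

end Co

/-- Coordinates when `A` has order sixteen: `a ^ 2 = z` and `b ^ 2 = e`. -/
structure Co16 (h : Hyp A) (z e a b : P) : Prop where
  co : Co h z e
  ha : a ∈ A
  hb : b ∈ A
  ha2 : a ^ 2 = z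
  hb2 : b ^ 2 = e
  hA : Nat.card A = 16

/-- The action of an element of `C_P(E)` on `A/E`, read in `E`. -/
noncomputable def psi (z e a b t : P) : Mat :=
  (Function.invFun (ev z e) ⁅t, a⁆, Function.invFun (ev z e) ⁅t, b⁆)

namespace Co16

variable [Finite P] {h : Hyp A} {z e a b : P} (K : Co16 h z e a b)
include K

local notation "C" => Subgroup.centralizer (A : Set P)
local notation "T" => Subgroup.centralizer (h.E : Set P)
local notation "ψ" => psi z e a b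

theorem exists_sq (v : Vec) : ∃ x ∈ A, x ^ 2 = ev z e v := by
  refine ⟨a ^ v.1.val * b ^ v.2.val, A.mul_mem (A.pow_mem K.ha _) (A.pow_mem K.hb _), ?_⟩
  rw [(Commute.pow_pow (show Commute a b from h.comm _ K.ha _ K.hb) _ _).mul_pow, ev,
    ← pow_mul, ← pow_mul, mul_comm _ 2, mul_comm _ 2, pow_mul, pow_mul, K.ha2, K.hb2]

theorem comm_eq {t x y : P} (ht : t ∈ T) (hx : x ∈ A) (hy : y ∈ A) (hxy : x ^ 2 = y ^ 2) :
    ⁅t, x⁆ = ⁅t, y⁆ := by
  have hd : x * y⁻¹ ∈ h.E := by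
    refine ⟨A.mul_mem hx (A.inv_mem hy), ?_⟩
    rw [Commute.mul_pow (h.comm _ hx _ (A.inv_mem hy)), inv_pow, hxy, mul_inv_cancel]
  have h1 := h.comm_mul_right ht hd.1 hy
  rw [inv_mul_cancel_right, commutatorElement_eq_one_iff_mul_comm.mpr (h.E_commute ht hd),
    one_mul] at h1
  exact h1

theorem psi_spec {t : P} (ht : t ∈ T) {x : P} (hx : x ∈ A) {v : Vec} (hv : x ^ 2 = ev z e v) :
    ⁅t, x⁆ = ev z e (ap (ψ t) v) := by
  have e1 : ev z e (ψ t).1 = ⁅t, a⁆ := K.co.ev_invFun (h.comm_mem_E ht K.ha)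
  have e2 : ev z e (ψ t).2 = ⁅t, b⁆ := K.co.ev_invFun (h.comm_mem_E ht K.hb)
  have hcases : ∀ w : Vec, w = 0 ∨ w = (1, 0) ∨ w = (0, 1) ∨ w = (1, 0) + (0, 1) := by decide
  rcases hcases v with rfl | rfl | rfl | rfl
  · rw [K.comm_eq ht hx A.one_mem (by rw [hv, K.co.ev_zero, one_pow]), commutatorElement_one_right,
      show ap (ψ t) 0 = 0 by simp [ap, Prod.ext_iff], K.co.ev_zero]
  · rw [K.comm_eq ht hx K.ha (by rw [hv, K.co.ev_one.1, K.ha2]), ← e1]
    simp [ap]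
  · rw [K.comm_eq ht hx K.hb (by rw [hv, K.co.ev_one.2, K.hb2]), ← e2]
    simp [ap]
  · rw [K.comm_eq ht hx (A.mul_mem K.ha K.hb) (by
      rw [hv, K.co.ev_add, K.co.ev_one.1, K.co.ev_one.2,
        (show Commute a b from h.comm _ K.ha _ K.hb).mul_pow, K.ha2, K.hb2]),
      h.comm_mul_right ht K.ha K.hb, ← e1, ← e2, ← K.co.ev_add]
    simp [ap]
    rfl

theorem psi_mul {s t : P} (hs : s ∈ T) (ht : t ∈ T) : ψ (s * t) = ψ s + ψ t := by
  have key : ∀ x ∈ A, Function.invFun (ev z e) ⁅s * t, x⁆ =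
      Function.invFun (ev z e) ⁅s, x⁆ + Function.invFun (ev z e) ⁅t, x⁆ := by
    intro x hx
    apply K.co.ev_inj
    rw [K.co.ev_add, K.co.ev_invFun (h.comm_mem_E hs hx), K.co.ev_invFun (h.comm_mem_E ht hx),
      K.co.ev_invFun (h.comm_mem_E (Subgroup.mul_mem _ hs ht) hx), h.comm_mul_left hs ht hx]
  exact Prod.ext (key a K.ha) (key b K.hb)

theorem psi_one : ψ (1 : P) = 0 := by
  have hi := K.psi_mul (Subgroup.one_mem T) (Subgroup.one_mem T)
  rw [mul_one, mat_add_self] at hi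
  exact hi

theorem psi_inv {t : P} (ht : t ∈ T) : ψ t⁻¹ = ψ t := by
  have h1 := K.psi_mul ht (Subgroup.inv_mem _ ht)
  rw [mul_inv_cancel, K.psi_one] at h1
  calc ψ t⁻¹ = ψ t + ψ t + ψ t⁻¹ := by rw [mat_add_self, zero_add]
    _ = ψ t := by rw [add_assoc, ← h1, add_zero]

theorem mem_C_of_psi {t : P} (ht : t ∈ T) (h0 : ψ t = 0) : t ∈ C := by
  rw [h.mem_C_iff]
  intro x hx
  obtain ⟨v, hv⟩ := K.co.ev_surj (h.sq_mem_E hx)
  rw [K.psi_spec ht hx hv.symm, h0, show ap 0 v = 0 by simp [ap, Prod.ext_iff], K.co.ev_zero]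

theorem psi_of_mem_C {t : P} (ht : t ∈ C) : ψ t = 0 := by
  have ha' := h.mem_C_iff.mp ht a K.ha
  have hb' := h.mem_C_iff.mp ht b K.hb
  apply Prod.ext <;> apply K.co.ev_inj
  · rw [show (ψ t).1 = Function.invFun (ev z e) ⁅t, a⁆ from rfl,
      K.co.ev_invFun (h.comm_mem_E (h.C_le_T ht) K.ha), ha']
    exact K.co.ev_zero.symm
  · rw [show (ψ t).2 = Function.invFun (ev z e) ⁅t, b⁆ from rfl,
      K.co.ev_invFun (h.comm_mem_E (h.C_le_T ht) K.hb), hb']
    exact K.co.ev_zero.symm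

theorem inv_mul_mem_C {s t : P} (hs : s ∈ T) (ht : t ∈ T) (he' : ψ s = ψ t) : s⁻¹ * t ∈ C :=
  K.mem_C_of_psi (Subgroup.mul_mem _ (Subgroup.inv_mem _ hs) ht)
    (by rw [K.psi_mul (Subgroup.inv_mem _ hs) ht, K.psi_inv hs, he', mat_add_self])

theorem psi_conj_mem {g t : P} (hg : g ∈ T) (ht : t ∈ T) : ψ (g * t * g⁻¹) = ψ t := by
  rw [K.psi_mul (Subgroup.mul_mem _ hg ht) (Subgroup.inv_mem _ hg), K.psi_mul hg ht, K.psi_inv hg,
    add_comm (ψ g), add_assoc, mat_add_self, add_zero]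

theorem psi_conj {g t : P} (hg : g ∉ T) (ht : t ∈ T) : ψ (g * t * g⁻¹) = conjU (ψ t) := by
  have ht' : g * t * g⁻¹ ∈ T := h.normal_T.conj_mem t ht g
  have key : ∀ (v : Vec) (x : P), x ∈ A → x ^ 2 = ev z e v →
      ap (ψ (g * t * g⁻¹)) (uni v) = uni (ap (ψ t) v) := by
    intro v x hx hv
    apply K.co.ev_inj
    rw [← K.co.conj_ev hg, ← K.psi_spec ht hx hv,
      ← K.psi_spec ht' (h.normal.conj_mem x hx g) (by rw [conj_pow, hv, K.co.conj_ev hg])]
    simp only [commutatorElement_def]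
    group
  have k1 := key (1, 0) a K.ha (by rw [K.ha2, K.co.ev_one.1])
  have k2 := key (0, 1) b K.hb (by rw [K.hb2, K.co.ev_one.2])
  simp [uni, ap] at k1 k2
  refine Prod.ext ?_ ?_
  · simpa [conjU, uni, Prod.ext_iff] using k1
  · apply eq_add_of_add_eq
    show uni (ψ t).1 + (ψ (g * t * g⁻¹)).2 = uni (ψ t).2
    rw [show uni (ψ t).1 = (ψ (g * t * g⁻¹)).1 from k1.symm]
    simpa [uni, Prod.ext_iff] using k2

theorem comm_mem_C_of_invariant {s : P} (hs : s ∈ T) (hfix : ∀ g, g ∉ T → conjU (ψ s) = ψ s)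
    (p : P) : ⁅p, s⁆ ∈ C := by
  by_cases hp : p ∈ T
  · exact h.comm_mem_C hp hs
  have h1 : p * s * p⁻¹ ∈ T := h.normal_T.conj_mem s hs p
  rw [commutatorElement_def]
  exact K.mem_C_of_psi (Subgroup.mul_mem _ h1 (Subgroup.inv_mem _ hs))
    (by rw [K.psi_mul h1 (Subgroup.inv_mem _ hs), K.psi_inv hs, K.psi_conj hp hs, hfix p hp,
      mat_add_self])

theorem fix_of_inv0 {r : P} (hr : r ∈ T) (hi : Inv0 (ψ r)) :
    ∀ x ∈ A, ⁅r, x⁆ = 1 → x ∈ h.E := by
  intro x hx hrx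
  obtain ⟨v, hv⟩ := K.co.ev_surj (h.sq_mem_E hx)
  rw [K.psi_spec hr hx hv.symm, K.co.ev_eq_one_iff] at hrx
  exact ⟨hx, by rw [← hv, hi v hrx, K.co.ev_zero]⟩

/-- The consequence of `Hyp.no_inverting` in coordinates. -/
theorem no_inverting (hCE : ∀ c ∈ C, ∀ d ∈ C, ⁅c, d⁆ ∈ h.E) {s : P} (hs : s ∈ T)
    (hne : ψ s ≠ 0) (hi : Inv1 (ψ s)) (hfix : ∀ g, g ∉ T → conjU (ψ s) = ψ s)
    (hs2 : s ^ 2 ∈ sqGen (C : Subgroup P)) : False := by
  refine h.no_inverting K.co.hE K.hA hCE hs (fun hc => hne (K.psi_of_mem_C hc)) ?_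
    (K.comm_mem_C_of_invariant hs hfix) hs2
  intro x hx hxs
  obtain ⟨v, hv⟩ := K.co.ev_surj (h.sq_mem_E hx)
  have e1 : ⁅s, x⁆ = x ^ 2 := by
    calc ⁅s, x⁆ = x⁻¹ * (x * (s * x * s⁻¹)) * x⁻¹ := by
          rw [commutatorElement_def]; group
      _ = (x ^ 2)⁻¹ := by rw [hxs, mul_one, pow_two, mul_inv_rev]
      _ = x ^ 2 := h.inv_eq_of_mem_E (h.sq_mem_E hx)
  rw [K.psi_spec hs hx hv.symm, ← hv] at e1
  exact ⟨hx, by rw [← hv, hi v (K.co.ev_inj e1), K.co.ev_zero]⟩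

end Co16

end Cfsg.Agent.Lib.NormalRankTwo
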