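import Cfsg.Agent.Lib.NormalRankTwo.Setup

/-!
# Elements acting on `A/E` like an inversion, and the forbidden extension
-/

set_option autoImplicit false
set_option linter.unusedSectionVars false

namespace Cfsg.Agent.Lib.NormalRankTwo

open Subgroup
open scoped commutatorElement

variable {P : Type*} [Group P] {A : Subgroup P}

namespace Hyp

variable (h : Hyp A)
include h

local notation "C" => Subgroup.centralizer (A : Set P)
local notation "T" => Subgroup.centralizer (h.E : Set P)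

theorem mem_E_of_pow_four {x : P} (hx : x ∈ C) (hx4 : x ^ 4 = 1) (hx2 : x ^ 2 = 1) : x ∈ h.E :=
  ⟨h.mem x hx hx4, hx2⟩

/-- If `r ∈ T` fixes only the elements of `E` in `A`, it fixes only the elements of `E` in `C`. -/
theorem mem_E_of_fixed [Finite P] {r : P} (hr : ∀ x ∈ A, ⁅r, x⁆ = 1 → x ∈ h.E) :
    ∀ n, ∀ c : P, orderOf c = n → c ∈ C → ⁅r, c⁆ = 1 → c ∈ h.E := by
  intro n
  induction n using Nat.strong_induction_on with
  | _ n ih =>
    intro c hn hc hrc
    by_cases h1 : c = 1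
    · rw [h1]; exact Subgroup.one_mem _
    have hlt : orderOf (c ^ 2) < n := by
      have hpos := orderOf_pos c
      have hdvd : orderOf (c ^ 2) ∣ orderOf c := orderOf_pow_dvd 2
      refine lt_of_le_of_ne (hn ▸ Nat.le_of_dvd hpos hdvd) fun e => h1 ?_
      obtain ⟨k, hk⟩ := IsPGroup.iff_orderOf.mp h.pg c
      rw [← hn, orderOf_pow, hk] at e
      rcases Nat.eq_zero_or_pos k with rfl | hk0
      · rw [pow_zero] at hk
        exact orderOf_eq_one_iff.mp hk
      · exfalso
        have hg : Nat.gcd (2 ^ k) 2 = 2 := Nat.gcd_eq_right (dvd_pow_self 2 (by omega))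
        rw [hg] at e
        have : 0 < 2 ^ k := Nat.two_pow_pos k
        omega
    have h2 : c ^ 2 ∈ h.E := by
      refine ih _ hlt _ rfl (Subgroup.pow_mem _ hc 2) ?_
      rw [commutatorElement_eq_one_iff_mul_comm] at hrc ⊢
      exact ((Commute.pow_right hrc 2)).eq
    refine hr c (h.mem c hc ?_) hrc
    rw [show (4 : ℕ) = 2 * 2 from rfl, pow_mul, h2.2]

/-- An element of `T` fixing only `E` in `A` squares into `E` and forces `C/E` to be abelian. -/
theorem comm_C_mem_E_of_invertible [Finite P] {r : P} (hr : r ∈ T)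
    (hrA : ∀ x ∈ A, ⁅r, x⁆ = 1 → x ∈ h.E) :
    (∀ c ∈ C, ∀ d ∈ C, ⁅c, d⁆ ∈ h.E) ∧ ∀ c ∈ C, r * c * r⁻¹ * c ∈ h.E := by
  have hE := h.normal_E
  let f := QuotientGroup.mk' h.E
  have hfk : ∀ {x : P}, f x = 1 ↔ x ∈ h.E := fun {x} => QuotientGroup.eq_one_iff x
  have key : ∀ c ∈ C, (r * c) ^ 2 ∈ h.E := by
    intro c hc
    have hrc : r * c ∈ T := Subgroup.mul_mem _ hr (h.C_le_T hc)
    have hfix : ∀ x ∈ A, ⁅r * c, x⁆ = 1 → x ∈ h.E := by
      intro x hx e
      rw [h.comm_mul_left hr (h.C_le_T hc) hx, (h.mem_C_iff.mp hc) x hx, mul_one] at e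
      exact hrA x hx e
    refine h.mem_E_of_fixed hfix _ _ rfl (h.sq_mem_C hrc) ?_
    rw [commutatorElement_eq_one_iff_mul_comm]
    exact ((Commute.refl (r * c)).pow_right 2).eq
  have hr2 : r ^ 2 ∈ h.E := by simpa using key 1 (Subgroup.one_mem _)
  have hinv : ∀ c ∈ C, f r * f c * (f r)⁻¹ = (f c)⁻¹ := by
    intro c hc
    have e1 := hfk.mpr (key c hc)
    have e2 := hfk.mpr hr2
    rw [map_pow, map_mul, pow_two] at e1
    rw [map_pow, pow_two] at e2
    rw [← eq_inv_of_mul_eq_one_left e2]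
    rw [← mul_assoc] at e1
    exact eq_inv_of_mul_eq_one_left e1
  refine ⟨fun c hc d hd => ?_, fun c hc => ?_⟩
  · have e1 := hinv (c * d) (Subgroup.mul_mem _ hc hd)
    rw [map_mul] at e1
    have e2 : f r * (f c * f d) * (f r)⁻¹ = (f r * f c * (f r)⁻¹) * (f r * f d * (f r)⁻¹) := by
      group
    rw [e2, hinv c hc, hinv d hd, ← mul_inv_rev, inv_inj] at e1
    rw [← hfk, map_commutatorElement, commutatorElement_eq_one_iff_mul_comm]
    exact e1.symm
  · rw [← hfk, map_mul, map_mul, map_mul, map_inv, hinv c hc, inv_mul_cancel]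

/-- Squares of elements of `C` are closed under products modulo `E` when `C/E` is abelian. -/
theorem exists_sq_of_mem_sqGen (hCE : ∀ c ∈ C, ∀ d ∈ C, ⁅c, d⁆ ∈ h.E) {x : P}
    (hx : x ∈ sqGen (C : Subgroup P)) : ∃ k ∈ C, ∃ e ∈ h.E, x = k ^ 2 * e := by
  have hEC : ∀ {e c : P}, e ∈ h.E → c ∈ C → Commute c e := fun he hc => h.C_commute hc he.1
  induction hx using Subgroup.closure_induction with
  | mem y hy =>
      obtain ⟨k, hk, rfl⟩ := hy
      exact ⟨k, hk, 1, Subgroup.one_mem _, (mul_one _).symm⟩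
  | one => exact ⟨1, Subgroup.one_mem _, 1, Subgroup.one_mem _, by simp⟩
  | mul a b _ _ iha ihb =>
      obtain ⟨k, hk, e, he, rfl⟩ := iha
      obtain ⟨l, hl, u, hu, rfl⟩ := ihb
      refine ⟨k * l, Subgroup.mul_mem _ hk hl, ⁅k, l⁆ * (e * u),
        Subgroup.mul_mem _ (hCE k hk l hl) (Subgroup.mul_mem _ he hu), ?_⟩
      have hw : ⁅k, l⁆ ∈ h.E := hCE k hk l hl
      have e1 : (k * l) ^ 2 * ⁅k, l⁆ = k ^ 2 * l ^ 2 := by
        calc (k * l) ^ 2 * ⁅k, l⁆ = k * (l * k) * (l * ⁅k, l⁆) := by simp only [pow_two, mul_assoc]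
          _ = k * (l * k * ⁅k, l⁆) * l := by rw [(hEC hw hl).eq]; simp only [mul_assoc]
          _ = k * (⁅k, l⁆ * (l * k)) * l := by rw [(hEC hw (Subgroup.mul_mem _ hl hk)).eq]
          _ = k ^ 2 * l ^ 2 := by
              simp only [commutatorElement_def, pow_two, mul_assoc, inv_mul_cancel_left]
      calc k ^ 2 * e * (l ^ 2 * u) = k ^ 2 * (e * l ^ 2) * u := by simp only [mul_assoc]
        _ = k ^ 2 * l ^ 2 * (e * u) := by
            rw [← (hEC he (Subgroup.pow_mem _ hl 2)).eq]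
            simp only [mul_assoc]
        _ = (k * l) ^ 2 * (⁅k, l⁆ * (e * u)) := by rw [← mul_assoc ((k * l) ^ 2), e1]
  | inv a _ iha =>
      obtain ⟨k, hk, e, he, rfl⟩ := iha
      refine ⟨k⁻¹, Subgroup.inv_mem _ hk, e⁻¹, Subgroup.inv_mem _ he, ?_⟩
      rw [mul_inv_rev, inv_pow]
      exact ((hEC he (Subgroup.pow_mem _ hk 2)).inv_inv).eq.symm

/-- There is no element of `T` squaring into the squares of `C` which is central modulo `C` in `P`
and whose sum with the identity is invertible on `A/E`. -/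
theorem no_inverting [Finite P] (hE4 : Nat.card h.E = 4) (hA : Nat.card A = 16)
    (hCE : ∀ c ∈ C, ∀ d ∈ C, ⁅c, d⁆ ∈ h.E) {s : P} (hs : s ∈ T) (hsC : s ∉ C)
    (hinj : ∀ x ∈ A, x * (s * x * s⁻¹) = 1 → x ∈ h.E)
    (hcen : ∀ p : P, ⁅p, s⁆ ∈ C) (hs2 : s ^ 2 ∈ sqGen (C : Subgroup P)) : False := by
  have hCn := h.normal_C
  have hEn := h.normal_E
  let f := QuotientGroup.mk' h.E
  have hfk : ∀ {x : P}, f x = 1 ↔ x ∈ h.E := fun {x} => QuotientGroup.eq_one_iff x
  have hfc : ∀ {c d : P}, c ∈ C → d ∈ C → Commute (f c) (f d) := fun {c d} hc hd => by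
    rw [commute_iff_eq, ← commutatorElement_eq_one_iff_mul_comm, ← map_commutatorElement, hfk]
    exact hCE c hc d hd
  -- `s ^ 2` is central in `C`
  have hz : ∀ y ∈ sqGen (C : Subgroup P), ∀ c ∈ C, Commute y c := by
    intro y hy c hc
    obtain ⟨k, hk, e, he, rfl⟩ := h.exists_sq_of_mem_sqGen hCE hy
    refine Commute.mul_left ?_ (h.C_commute hc he.1).symm
    have hw := hCE k hk c hc
    rw [commute_iff_eq, ← commutatorElement_eq_one_iff_mul_comm,
      PGroups.commutatorElement_pow_left_of_central k c (h.C_commute hk hw.1), hw.2]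
  -- commutators of `s` with `C` lie in `E`
  have hsc : ∀ n, ∀ c : P, orderOf c = n → c ∈ C → ⁅s, c⁆ ∈ h.E := by
    intro n
    induction n using Nat.strong_induction_on with
    | _ n ih =>
      intro c hn hc
      by_cases h1 : c = 1
      · simp [h1]
      have hlt : orderOf (c ^ 2) < n := by
        obtain ⟨k, hk⟩ := IsPGroup.iff_orderOf.mp h.pg c
        have hk0 : k ≠ 0 := by
          rintro rfl
          rw [pow_zero] at hk
          exact h1 (orderOf_eq_one_iff.mp hk)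
        have hg : Nat.gcd (2 ^ k) 2 = 2 := Nat.gcd_eq_right (dvd_pow_self 2 hk0)
        rw [orderOf_pow, ← hn, hk, hg]
        have : 0 < 2 ^ k := Nat.two_pow_pos k
        omega
      have h2 := ih _ hlt _ rfl (Subgroup.pow_mem _ hc 2)
      set w := ⁅s, c⁆ with hw
      have hwC : w ∈ C := by
        rw [hw, commutatorElement_def]
        exact Subgroup.mul_mem _ (hCn.conj_mem c hc s) (Subgroup.inv_mem _ hc)
      have e1 : f ⁅s, c ^ 2⁆ = f (w ^ 2) := by
        have e : ⁅s, c ^ 2⁆ = w * (c * w * c⁻¹) := by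
          simp only [hw, commutatorElement_def, pow_two]
          group
        rw [e, map_mul, map_mul, map_mul, map_inv, (hfc hc hwC).eq, mul_inv_cancel_right, pow_two,
          map_mul]
      have hw2 : w ^ 2 ∈ h.E := hfk.mp (by rw [← e1]; exact hfk.mpr h2)
      have hwA : w ∈ A := h.mem w hwC (by rw [show (4 : ℕ) = 2 * 2 from rfl, pow_mul, hw2.2])
      refine hinj w hwA ?_
      have e2 : s * s * c * (s * s)⁻¹ = c := by
        have := (hz _ hs2 c hc).eq
        rw [pow_two] at this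
        rw [this, mul_inv_cancel_right]
      rw [h.comm w hwA _ (h.normal.conj_mem w hwA s)]
      have e3 : s * s * c * (s * s)⁻¹ = s * w * s⁻¹ * w * c := by
        simp only [hw, commutatorElement_def]
        group
      rw [e2] at e3
      exact mul_eq_right.mp e3.symm
  obtain ⟨k, hk, e, he, hke⟩ := h.exists_sq_of_mem_sqGen hCE hs2
  -- an element of `sC` squaring into `E`
  have hfs : Commute (f s) (f k) := by
    rw [commute_iff_eq, ← commutatorElement_eq_one_iff_mul_comm, ← map_commutatorElement, hfk]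
    exact hsc _ k rfl hk
  have hs'2 : (s * k⁻¹) ^ 2 ∈ h.E := by
    rw [← hfk, map_pow, map_mul, map_inv, (hfs.inv_right).mul_pow, ← map_pow, hke, map_mul,
      hfk.mpr he, mul_one, map_pow, inv_pow, mul_inv_cancel]
  set s' := s * k⁻¹ with hs'
  have hconj : ∀ x ∈ A, s' * x * s'⁻¹ = s * x * s⁻¹ := by
    intro x hx
    calc s' * x * s'⁻¹ = s * (k⁻¹ * x * k) * s⁻¹ := by rw [hs']; group
      _ = s * x * s⁻¹ := by
        rw [h.C_commute (Subgroup.inv_mem _ hk) hx, inv_mul_cancel_right]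
  have : IsMulCommutative A := ⟨⟨fun x y => Subtype.ext (h.comm x x.2 y y.2)⟩⟩
  let L : A →* P := MonoidHom.mk' (fun x => (x : P) * (s * x * s⁻¹)) fun x y => by
    have hy : (y : P) * (s * (x : P) * s⁻¹) = s * (x : P) * s⁻¹ * y :=
      h.comm _ y.2 _ (h.normal.conj_mem _ x.2 s)
    show (x : P) * y * (s * ((x : P) * y) * s⁻¹) = _
    calc (x : P) * y * (s * ((x : P) * y) * s⁻¹)
        = (x : P) * (y * (s * (x : P) * s⁻¹)) * (s * y * s⁻¹) := by group
      _ = (x : P) * (s * x * s⁻¹) * ((y : P) * (s * y * s⁻¹)) := by rw [hy]; group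
  have hLr : L.range ≤ h.E := by
    rintro _ ⟨x, rfl⟩
    show (x : P) * (s * x * s⁻¹) ∈ h.E
    rw [show (x : P) * (s * x * s⁻¹) = x * ⁅s, (x : P)⁆ * (x : P)⁻¹ * (x : P) ^ 2 by
      simp only [commutatorElement_def, pow_two, mul_assoc, inv_mul_cancel_left, inv_mul_cancel,
        mul_one],
      h.comm _ x.2 _ (h.comm_mem_E hs x.2).1, mul_inv_cancel_right]
    exact Subgroup.mul_mem _ (h.comm_mem_E hs x.2) (h.sq_mem_E x.2)
  have hLk : Nat.card L.ker ≤ 4 := by
    rw [← hE4]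
    exact Nat.card_le_card_of_injective (fun x => (⟨(x.1 : P), hinj _ x.1.2 x.2⟩ : h.E))
      fun a b e => Subtype.ext (Subtype.ext (congrArg (fun w : h.E => (w : P)) e))
  have hL : L.range = h.E := by
    refine Subgroup.eq_of_le_of_card_ge hLr ?_
    rw [hE4]
    have := Subgroup.card_mul_index L.ker
    rw [Subgroup.index_ker, hA] at this
    have := Nat.mul_le_mul_right (Nat.card L.range) hLk
    omega
  obtain ⟨a, ha⟩ : (s' ^ 2)⁻¹ ∈ L.range := hL ▸ Subgroup.inv_mem _ hs'2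
  set s0 := s' * a with hs0
  have hs0T : s0 ∈ T := Subgroup.mul_mem _ (Subgroup.mul_mem _ hs
    (h.C_le_T (Subgroup.inv_mem _ hk))) (h.C_le_T (h.le_C a.2))
  have hinv : s0 ^ 2 = 1 := by
    have hc : Commute (a : P) (s' ^ 2) := h.comm _ a.2 _ hs'2.1
    have ha' : (a : P) * (s * a * s⁻¹) = (s' ^ 2)⁻¹ := ha
    calc s0 ^ 2 = s' * a * s'⁻¹ * (s' ^ 2 * a) := by rw [hs0, pow_two, pow_two]; group
      _ = s * a * s⁻¹ * a * s' ^ 2 := by rw [hconj _ a.2, ← hc.eq, mul_assoc (s * a * s⁻¹)]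
      _ = 1 := by rw [h.comm _ (h.normal.conj_mem _ a.2 s) _ a.2, ha', inv_mul_cancel]
  -- the conjugates of `s0` are congruent to it modulo `E`
  have hg : ∀ p : P, ⁅p, s0⁆ ∈ h.E := by
    intro p
    set c := ⁅p, s0⁆ with hc
    have hd : k⁻¹ * a ∈ C := Subgroup.mul_mem _ (Subgroup.inv_mem _ hk) (h.le_C a.2)
    have hcC : c ∈ C := by
      have hsd : s0 = s * (k⁻¹ * a) := by rw [hs0, hs', mul_assoc]
      have : c = ⁅p, s⁆ * (s * ⁅p, k⁻¹ * a⁆ * s⁻¹) := by
        rw [hc, hsd]; simp only [commutatorElement_def]; group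
      rw [this]
      refine Subgroup.mul_mem _ (hcen p) (hCn.conj_mem _ ?_ s)
      rw [commutatorElement_def]
      exact Subgroup.mul_mem _ (hCn.conj_mem _ hd p) (Subgroup.inv_mem _ hd)
    have hinv' : s0⁻¹ = s0 := by rw [inv_eq_iff_mul_eq_one, ← pow_two, hinv]
    have e1 : c * (s0 * c * s0⁻¹) = 1 := by
      have hp : (c * s0) ^ 2 = 1 := by
        rw [hc, commutatorElement_def, inv_mul_cancel_right, conj_pow, hinv]
        simp
      calc c * (s0 * c * s0⁻¹) = (c * s0) ^ 2 := by rw [hinv', pow_two]; simp only [mul_assoc]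
        _ = 1 := hp
    have e2 : f (s0 * c * s0⁻¹) = f c := by
      have hd' : f s0 = f s * f (k⁻¹ * a) := by rw [← map_mul, hs0, hs', mul_assoc]
      have hsc' : Commute (f s) (f c) := by
        rw [commute_iff_eq, ← commutatorElement_eq_one_iff_mul_comm, ← map_commutatorElement, hfk]
        exact hsc _ c rfl hcC
      rw [map_mul, map_mul, map_inv, hd', (hsc'.mul_left (hfc hd hcC)).eq, mul_inv_cancel_right]
    have hc2 : c ^ 2 ∈ h.E := by
      rw [← hfk, pow_two, map_mul]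
      rw [← (hfk.mpr (e1.symm ▸ Subgroup.one_mem h.E)), map_mul, e2]
    have hcA : c ∈ A := h.mem c hcC (by rw [show (4 : ℕ) = 2 * 2 from rfl, pow_mul, hc2.2])
    refine hinj c hcA ?_
    rw [← hconj c hcA]
    have e3 : s0 * c * s0⁻¹ = s' * c * s'⁻¹ := by
      calc s0 * c * s0⁻¹ = s' * (a * c * (a : P)⁻¹) * s'⁻¹ := by rw [hs0]; group
        _ = s' * c * s'⁻¹ := by rw [h.comm _ a.2 c hcA, mul_inv_cancel_right]
    rw [← e3, e1]
  have hs0C : s0 ∉ C := by
    intro hm
    refine hsC ?_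
    have h2 := Subgroup.mul_mem _ (Subgroup.mul_mem _ hm (Subgroup.inv_mem _ (h.le_C a.2))) hk
    rwa [hs0, hs', mul_inv_cancel_right, inv_mul_cancel_right] at h2
  have hB := h.small _ (PGroups.normal_sup_zpowers hg) (PGroups.isMulCommutative_sup_zpowers
    h.comm_E hs0T) (by
    intro b hb
    obtain ⟨u, hu, _, ⟨i, rfl⟩, rfl⟩ := Subgroup.mem_sup_of_normal_left.mp hb
    have hcm : Commute u (s0 ^ i) := ((show Commute s0 u from h.E_commute hs0T hu).zpow_left i).symm
    rw [hcm.mul_pow, hu.2, one_mul, ← zpow_natCast, ← zpow_mul, mul_comm, zpow_mul,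
      zpow_natCast, hinv, one_zpow])
  have hlt : h.E < h.E ⊔ Subgroup.zpowers s0 :=
    lt_of_le_of_ne le_sup_left fun e => hs0C (h.le_C (h.E_le
      (e.symm ▸ (Subgroup.mem_sup_right (Subgroup.mem_zpowers s0)))))
  refine hlt.ne (Subgroup.eq_of_le_of_card_ge le_sup_left ?_)
  rw [hE4]
  exact hB

end Hyp

end Cfsg.Agent.Lib.NormalRankTwo
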