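import Mathlib.GroupTheory.Sylow
import Mathlib.GroupTheory.Nilpotent
import Mathlib.GroupTheory.QuotientGroup.Basic
import Cfsg.Prelude.Def_CaseTheorems

/-!
# The subgroup generated by the squares, and a counting bound for 2-groups whose elements of
exponent four are central
-/

set_option autoImplicit false

namespace Cfsg.Agent.Lib.NormalRankTwo

open Subgroup
open scoped commutatorElement

variable {G : Type*} [Group G] {H K : Subgroup G}

/-- The subgroup generated by the squares of the elements of `H`. -/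
def sqGen (H : Subgroup G) : Subgroup G := Subgroup.closure ((fun h : G => h ^ 2) '' (H : Set G))

theorem sq_mem_sqGen {h : G} (hh : h ∈ H) : h ^ 2 ∈ sqGen H :=
  Subgroup.subset_closure ⟨h, hh, rfl⟩

theorem sqGen_le_iff {L : Subgroup G} : sqGen H ≤ L ↔ ∀ h ∈ H, h ^ 2 ∈ L := by
  rw [sqGen, Subgroup.closure_le]
  exact ⟨fun hs h hh => hs ⟨h, hh, rfl⟩, by rintro hs _ ⟨h, hh, rfl⟩; exact hs h hh⟩

theorem sqGen_le : sqGen H ≤ H := sqGen_le_iff.mpr fun _ hh => H.pow_mem hh 2

theorem sqGen_mono (hle : K ≤ H) : sqGen K ≤ sqGen H :=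
  sqGen_le_iff.mpr fun _ hh => sq_mem_sqGen (hle hh)

theorem commutator_mem_sqGen {x y : G} (hx : x ∈ H) (hy : y ∈ H) : ⁅x, y⁆ ∈ sqGen H := by
  have e : ⁅x, y⁆ = (x * y) ^ 2 * (y⁻¹ * x⁻¹ * y) ^ 2 * (y⁻¹) ^ 2 := by
    simp only [commutatorElement_def, pow_two, mul_assoc, mul_inv_cancel_left]
  rw [e]
  exact mul_mem (mul_mem (sq_mem_sqGen (mul_mem hx hy))
    (sq_mem_sqGen (mul_mem (mul_mem (inv_mem hy) (inv_mem hx)) hy))) (sq_mem_sqGen (inv_mem hy))

theorem map_sqGen {G' : Type*} [Group G'] (f : G →* G') (H : Subgroup G) :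
    (sqGen H).map f = sqGen (H.map f) := by
  rw [sqGen, sqGen, MonoidHom.map_closure]
  congr 1
  ext y
  constructor
  · rintro ⟨_, ⟨x, hx, rfl⟩, rfl⟩
    exact ⟨f x, ⟨x, hx, rfl⟩, (map_pow f x 2).symm⟩
  · rintro ⟨_, ⟨x, hx, rfl⟩, rfl⟩
    exact ⟨x ^ 2, ⟨x, hx, rfl⟩, map_pow f x 2⟩

theorem card_map_mul_card_inf_ker {G' : Type*} [Group G'] (f : G →* G') (S : Subgroup G) :
    Nat.card (S.map f) * Nat.card (S ⊓ f.ker : Subgroup G) = Nat.card S := by
  have h1 : Nat.card (S.map f) = (f.domRestrict S).ker.index := by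
    rw [Subgroup.index_ker, MonoidHom.domRestrict_range]
  have h2 : Nat.card (f.domRestrict S).ker = Nat.card (S ⊓ f.ker : Subgroup G) := by
    rw [MonoidHom.ker_domRestrict,
      ← Nat.card_congr (Subgroup.subgroupOfEquivOfLe (inf_le_left : S ⊓ f.ker ≤ S)).toEquiv]
    congr 2
    rw [Subgroup.inf_subgroupOf_left]
  have h3 := Subgroup.card_mul_index (f.domRestrict S).ker
  rw [← h2, h1, mul_comm]
  exact h3

/-- In a finite 2-group in which every element of exponent four is central, commutators with an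
element of exponent eight have exponent two. -/
theorem sq_commutator_eq_one [Finite G] (hG : IsPGroup 2 G)
    (hc : ∀ x : G, x ^ 4 = 1 → x ∈ Subgroup.center G) :
    ∀ n, ∀ L : Subgroup G, Nat.card L = n → ∀ x ∈ L, ∀ y ∈ L, x ^ 8 = 1 → ⁅y, x⁆ ^ 2 = 1 := by
  intro n
  induction n using Nat.strong_induction_on with
  | _ n ih =>
    intro L hL x hx y hy hx8
    by_cases htop : Subgroup.zpowers (⟨x, hx⟩ : L) = ⊤
    · have hym : (⟨y, hy⟩ : L) ∈ Subgroup.zpowers (⟨x, hx⟩ : L) := htop ▸ Subgroup.mem_top _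
      obtain ⟨k, hk⟩ := Subgroup.mem_zpowers_iff.mp hym
      have hk' : x ^ k = y := by simpa using congrArg Subtype.val hk
      have : ⁅y, x⁆ = 1 := by
        rw [commutatorElement_eq_one_iff_mul_comm, ← hk']
        exact ((Commute.refl x).zpow_left k).eq
      simp [this]
    · obtain ⟨M, hM, hxM⟩ :=
        (IsCoatomic.eq_top_or_exists_le_coatom (Subgroup.zpowers (⟨x, hx⟩ : L))).resolve_left htop
      have : Group.IsNilpotent L := (hG.to_subgroup L).isNilpotent
      have hMn : M.Normal := Subgroup.NormalizerCondition.normal_of_coatom M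
        Group.normalizerCondition_of_isNilpotent hM
      have hxM' : (⟨x, hx⟩ : L) ∈ M := hxM (Subgroup.mem_zpowers _)
      have hwM : ⁅(⟨y, hy⟩ : L), ⟨x, hx⟩⁆ ∈ M := by
        rw [commutatorElement_def]
        exact M.mul_mem (hMn.conj_mem _ hxM' _) (M.inv_mem hxM')
      have hlt : Nat.card (M.map L.subtype) < n := by
        rw [Subgroup.card_map_of_injective L.subtype_injective, ← hL]
        refine lt_of_le_of_ne M.card_le_card_group fun e => hM.1 ?_
        exact Subgroup.eq_top_of_card_eq M e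
      set w := ⁅y, x⁆ with hw
      have hw1 : w ∈ M.map L.subtype := ⟨_, hwM, by simp [hw, commutatorElement_def]⟩
      have hx1 : x ∈ M.map L.subtype := ⟨_, hxM', rfl⟩
      have hc2 := ih _ hlt _ rfl x hx1 w hw1 hx8
      set c := ⁅w, x⁆ with hcdef
      have hcc : ∀ g, g * c = c * g :=
        Subgroup.mem_center_iff.mp (hc c (by rw [show (4 : ℕ) = 2 * 2 from rfl, pow_mul, hc2, one_pow]))
      have hx2 : ∀ g, g * x ^ 2 = x ^ 2 * g :=
        Subgroup.mem_center_iff.mp (hc _ (by rw [← pow_mul]; exact hx8))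
      have h1 : w * x * w = x := by
        have e : w * x * (w * x) = y * x ^ 2 * y⁻¹ := by
          simp only [hw, commutatorElement_def, pow_two, mul_assoc, inv_mul_cancel_left, inv_mul_cancel,
            mul_one]
        rw [hx2 y, mul_inv_cancel_right, pow_two, ← mul_assoc] at e
        exact mul_right_cancel e
      have h2 : w * x = c * x * w := by
        rw [hcdef, commutatorElement_def]
        group
      have h3 : w ^ 2 = c⁻¹ := by
        rw [h2] at h1
        have e : x * w ^ 2 = x * c⁻¹ := by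
          rw [eq_mul_inv_iff_mul_eq, hcc (x * w ^ 2), pow_two]
          simpa [mul_assoc] using h1
        exact mul_left_cancel e
      have h4 : w ^ 4 = 1 := by
        rw [show (4 : ℕ) = 2 * 2 from rfl, pow_mul, h3, inv_pow, hc2, inv_one]
      have h5 : c = 1 := by
        rw [hcdef, commutatorElement_eq_one_iff_mul_comm]
        exact (Subgroup.mem_center_iff.mp (hc w h4) x).symm
      rw [h3, h5, inv_one]

/-- If the elements of exponent four of the finite 2-group `G` are central, its order is at most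
the number of elements of exponent two times the order of the subgroup generated by squares. -/
theorem card_le_omega_mul_sqGen : ∀ (n : ℕ) (G : Type*) [Group G] [Finite G],
    Nat.card G = n → IsPGroup 2 G → (∀ x : G, x ^ 4 = 1 → x ∈ Subgroup.center G) →
      Nat.card G ≤ Nat.card {x : G // x ^ 2 = 1} * Nat.card (sqGen (⊤ : Subgroup G)) := by
  intro n
  induction n using Nat.strong_induction_on with
  | _ n ih =>
    intro G _ _ hn hG hc
    rcases subsingleton_or_nontrivial G with hs | hnt
    · have h1 : Nat.card G = 1 := Nat.card_unique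
      have : 0 < Nat.card {x : G // x ^ 2 = 1} := by
        have : Nonempty {x : G // x ^ 2 = 1} := ⟨⟨1, one_pow 2⟩⟩
        exact Nat.card_pos
      rw [h1]
      exact Nat.mul_pos this Nat.card_pos
    have hcen : ∀ x : G, x ^ 2 = 1 → x ∈ Subgroup.center G := fun x hx =>
      hc x (by rw [show (4 : ℕ) = 2 * 2 from rfl, pow_mul, hx, one_pow])
    let W : Subgroup G :=
      { carrier := {x | x ^ 2 = 1}
        one_mem' := one_pow 2
        mul_mem' := fun {a b} (ha : a ^ 2 = 1) (hb : b ^ 2 = 1) => by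
          have hab : Commute a b := Subgroup.mem_center_iff.mp (hcen b hb) a
          show (a * b) ^ 2 = 1
          rw [hab.mul_pow, ha, hb, one_mul]
        inv_mem' := fun {a} (ha : a ^ 2 = 1) => by
          show a⁻¹ ^ 2 = 1
          rw [inv_pow, ha, inv_one] }
    have hWmem : ∀ x, x ∈ W ↔ x ^ 2 = 1 := fun _ => Iff.rfl
    have hWn : W.Normal := ⟨fun x hx g => by rw [hWmem, conj_pow, (hWmem x).mp hx]; simp⟩
    have hWcard : Nat.card W = Nat.card {x : G // x ^ 2 = 1} := rfl
    rw [← hWcard]
    let f := QuotientGroup.mk' W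
    have hker : f.ker = W := QuotientGroup.ker_mk' W
    have hWpos : 1 < Nat.card W := by
      have h2 : 2 ∣ Nat.card G := by
        obtain ⟨k, hk⟩ := IsPGroup.iff_card.mp hG
        have hk0 : k ≠ 0 := by
          rintro rfl
          rw [pow_zero] at hk
          exact absurd hk (Finite.one_lt_card (α := G)).ne'
        rw [hk]
        exact dvd_pow_self 2 hk0
      obtain ⟨x, hx⟩ := exists_prime_orderOf_dvd_card' 2 h2
      refine lt_of_lt_of_le (by rw [hx]; norm_num : 1 < orderOf x) ?_
      rw [← Nat.card_zpowers]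
      exact Subgroup.card_le_of_le (Subgroup.zpowers_le.mpr (by rw [hWmem, ← hx, pow_orderOf_eq_one]))
    have hG_eq : Nat.card G = Nat.card W * Nat.card (G ⧸ W) := by
      rw [← Subgroup.index_eq_card, Subgroup.card_mul_index]
    have hlt : Nat.card (G ⧸ W) < n := by
      rw [← hn, hG_eq]
      exact lt_mul_left Nat.card_pos hWpos
    have hcq : ∀ x : G ⧸ W, x ^ 4 = 1 → x ∈ Subgroup.center (G ⧸ W) := by
      intro x hx
      obtain ⟨x, rfl⟩ := QuotientGroup.mk'_surjective W x
      have h4 : (x ^ 4) ^ 2 = 1 := by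
        rw [← hWmem, ← hker, MonoidHom.mem_ker, map_pow]
        exact hx
      rw [← pow_mul] at h4
      rw [Subgroup.mem_center_iff]
      intro y
      obtain ⟨y, rfl⟩ := QuotientGroup.mk'_surjective W y
      have := sq_commutator_eq_one hG hc _ ⊤ rfl x (Subgroup.mem_top _) y (Subgroup.mem_top _) h4
      rw [← commutatorElement_eq_one_iff_mul_comm, ← map_commutatorElement, ← MonoidHom.mem_ker,
        hker, hWmem]
      exact this
    have hq := ih _ hlt (G ⧸ W) rfl (hG.to_quotient W) hcq
    let W1 : Subgroup (G ⧸ W) :=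
      { carrier := {x | x ^ 2 = 1}
        one_mem' := one_pow 2
        mul_mem' := fun {a b} (ha : a ^ 2 = 1) (hb : b ^ 2 = 1) => by
          have hab : Commute a b := Subgroup.mem_center_iff.mp
            (hcq b (by rw [show (4 : ℕ) = 2 * 2 from rfl, pow_mul, hb, one_pow])) a
          show (a * b) ^ 2 = 1
          rw [hab.mul_pow, ha, hb, one_mul]
        inv_mem' := fun {a} (ha : a ^ 2 = 1) => by
          show a⁻¹ ^ 2 = 1
          rw [inv_pow, ha, inv_one] }
    let W2 : Subgroup G := W1.comap f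
    have hW2 : ∀ x ∈ W2, (x ^ 2) ^ 2 = 1 := by
      intro x (hx : (f x) ^ 2 = 1)
      rw [← map_pow, ← MonoidHom.mem_ker, hker, hWmem] at hx
      exact hx
    let S : W2 →* G := MonoidHom.mk' (fun x => (x : G) ^ 2) (fun a b => by
      have hb : (b : G) ∈ Subgroup.center G := hc _ (by
        rw [show (4 : ℕ) = 2 * 2 from rfl, pow_mul]
        exact hW2 _ b.2)
      have hab : Commute (a : G) (b : G) := Subgroup.mem_center_iff.mp hb a
      simpa using hab.mul_pow 2)
    have hS : Nat.card W2 = Nat.card S.ker * Nat.card S.range := by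
      rw [← Subgroup.index_ker, Subgroup.card_mul_index]
    have hSk : Nat.card S.ker ≤ Nat.card W :=
      Nat.card_le_card_of_injective (fun x => (⟨x.1.1, x.2⟩ : W)) fun a b e =>
        Subtype.ext (Subtype.ext (congrArg (fun w : W => (w : G)) e))
    have hSr : Nat.card S.range ≤ Nat.card (sqGen (⊤ : Subgroup G) ⊓ W : Subgroup G) := by
      refine Subgroup.card_le_of_le ?_
      rintro _ ⟨x, rfl⟩
      exact ⟨sq_mem_sqGen (Subgroup.mem_top _), hW2 _ x.2⟩
    have hW2c : Nat.card W2 = Nat.card W1 * Nat.card W := by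
      have h := card_map_mul_card_inf_ker f W2
      rw [Subgroup.map_comap_eq_self_of_surjective (QuotientGroup.mk'_surjective W), hker,
        inf_eq_right.mpr (hker ▸ f.ker_le_comap W1 : W ≤ W2)] at h
      exact h.symm
    have hW1 : Nat.card W1 ≤ Nat.card (sqGen (⊤ : Subgroup G) ⊓ W : Subgroup G) := by
      refine Nat.le_of_mul_le_mul_right ?_ (Nat.card_pos (α := W))
      rw [← hW2c, hS, mul_comm]
      exact Nat.mul_le_mul hSr hSk
    have hsq := card_map_mul_card_inf_ker f (sqGen (⊤ : Subgroup G))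
    rw [map_sqGen, Subgroup.map_top_of_surjective f (QuotientGroup.mk'_surjective W), hker] at hsq
    rw [hG_eq, ← hsq]
    calc Nat.card W * Nat.card (G ⧸ W)
        ≤ Nat.card W * (Nat.card W1 * Nat.card (sqGen (⊤ : Subgroup (G ⧸ W)))) :=
          Nat.mul_le_mul_left _ hq
      _ ≤ Nat.card W * (Nat.card (sqGen (⊤ : Subgroup (G ⧸ W))) *
            Nat.card (sqGen (⊤ : Subgroup G) ⊓ W : Subgroup G)) := by
          refine Nat.mul_le_mul_left _ ?_
          rw [mul_comm]
          exact Nat.mul_le_mul_left _ hW1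

/-- Sectional rank at most `k` follows from `|H| ≤ 2 ^ k * |⟨h²⟩|` for every subgroup `H`. -/
theorem sectionalPRankLE_two_of_card_le [Finite G] {k : ℕ}
    (h : ∀ H : Subgroup G, Nat.card H ≤ 2 ^ k * Nat.card (sqGen H)) :
    Cfsg.SectionalPRankLE 2 k G := by
  intro H N _ A _ hA2
  let f := QuotientGroup.mk' N
  let A' := A.comap f
  have h1 : Nat.card A' = Nat.card A * Nat.card N := by
    have h := card_map_mul_card_inf_ker f A'
    rw [Subgroup.map_comap_eq_self_of_surjective (QuotientGroup.mk'_surjective N),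
      inf_eq_right.mpr (f.ker_le_comap A), QuotientGroup.ker_mk'] at h
    exact h.symm
  have h2 : sqGen (A'.map H.subtype) ≤ N.map H.subtype := by
    rw [← map_sqGen]
    refine Subgroup.map_mono (sqGen_le_iff.mpr fun x hx => ?_)
    rw [← QuotientGroup.eq_one_iff]
    exact hA2 (f x) hx
  have h3 := h (A'.map H.subtype)
  rw [Subgroup.card_map_of_injective H.subtype_injective, h1] at h3
  have h4 := Subgroup.card_le_of_le h2
  rw [Subgroup.card_map_of_injective H.subtype_injective] at h4
  exact Nat.le_of_mul_le_mul_right (h3.trans (Nat.mul_le_mul_left _ h4)) Nat.card_pos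

end Cfsg.Agent.Lib.NormalRankTwo
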