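import Cfsg.Agent.Lib.PGroups.MaxAbelian
import Cfsg.Agent.Lib.NormalRankTwo.Squares

/-!
# A maximal normal abelian subgroup of exponent four in a 2-group of normal rank at most two
-/

set_option autoImplicit false
set_option linter.unusedSectionVars false

namespace Cfsg.Agent.Lib.NormalRankTwo

open Subgroup
open scoped commutatorElement

variable {P : Type*} [Group P]

/-- `A` is a normal abelian subgroup of exponent dividing four of the 2-group `P` which contains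
all such elements of its centralizer; `P` has no normal elementary abelian subgroup of order
above four. -/
structure Hyp (A : Subgroup P) : Prop where
  pg : IsPGroup 2 P
  small : ∀ B : Subgroup P, B.Normal → IsMulCommutative B → (∀ b ∈ B, b ^ 2 = 1) → Nat.card B ≤ 4
  normal : A.Normal
  comm : ∀ x ∈ A, ∀ y ∈ A, x * y = y * x
  exp : ∀ x ∈ A, x ^ 4 = 1
  mem : ∀ x ∈ Subgroup.centralizer (A : Set P), x ^ 4 = 1 → x ∈ A

theorem exists_hyp [Finite P] (hP : IsPGroup 2 P)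
    (h : ∀ A : Subgroup P, A.Normal → IsMulCommutative A → (∀ a ∈ A, a ^ 2 = 1) → Nat.card A ≤ 4) :
    ∃ A : Subgroup P, Hyp A := by
  have : Fact (Nat.Prime 2) := ⟨Nat.prime_two⟩
  have hne : {B : Subgroup P | B.Normal ∧ IsMulCommutative B ∧ ∀ b ∈ B, b ^ 4 = 1}.Nonempty :=
    ⟨⊥, inferInstance, inferInstance, fun b hb => by simp [Subgroup.mem_bot.mp hb]⟩
  obtain ⟨A, ⟨hn, hc, he⟩, hmax⟩ := (Set.toFinite _).exists_maximal hne
  refine ⟨A, hP, h, hn, fun x hx y hy => ?_, he, fun x hx hx4 => ?_⟩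
  · exact setLike_mul_comm hx hy
  · exact PGroups.mem_of_maximal_exponent hP 2 (by norm_num) hc he
      (fun B hBn hBc hBe hAB => le_antisymm (hmax ⟨hBn, hBc, hBe⟩ hAB) hAB) hx hx4

theorem card_le_mul_of_fun [Finite P] {β : Type*} (C : Subgroup P) [C.Normal] (S : Subgroup P)
    (f : P → β) (F : Finset β) (hf : ∀ x ∈ S, f x ∈ F)
    (hinj : ∀ x ∈ S, ∀ y ∈ S, f x = f y → x⁻¹ * y ∈ C) :
    Nat.card S ≤ F.card * Nat.card (S ⊓ C : Subgroup P) := by
  have h := card_map_mul_card_inf_ker (QuotientGroup.mk' C) S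
  rw [QuotientGroup.ker_mk'] at h
  rw [← h]
  refine Nat.mul_le_mul_right _ ?_
  choose g hg hg' using fun x : S.map (QuotientGroup.mk' C) => Subgroup.mem_map.mp x.2
  have := Nat.card_le_card_of_injective (fun x => (⟨f (g x), hf _ (hg x)⟩ : F)) fun x y e => by
    refine Subtype.ext ?_
    rw [← hg' x, ← hg' y]
    exact QuotientGroup.eq.mpr (hinj _ (hg x) _ (hg y) (congrArg Subtype.val e))
  simpa using this

theorem card_le_index_mul_inf [Finite P] (F H : Subgroup P) [F.Normal] :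
    Nat.card H ≤ F.index * Nat.card (H ⊓ F : Subgroup P) := by
  have h := card_map_mul_card_inf_ker (QuotientGroup.mk' F) H
  rw [QuotientGroup.ker_mk'] at h
  rw [← h, Subgroup.index_eq_card]
  exact Nat.mul_le_mul_right _ (Subgroup.card_le_card_group _)

variable {A : Subgroup P}

namespace Hyp

/-- The elements of `A` of exponent two. -/
def E (h : Hyp A) : Subgroup P where
  carrier := {x | x ∈ A ∧ x ^ 2 = 1}
  one_mem' := ⟨A.one_mem, one_pow 2⟩
  mul_mem' := fun {a b} ha hb =>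
    ⟨A.mul_mem ha.1 hb.1, by rw [Commute.mul_pow (h.comm a ha.1 b hb.1), ha.2, hb.2, one_mul]⟩
  inv_mem' := fun {a} ha => ⟨A.inv_mem ha.1, by rw [inv_pow, ha.2, inv_one]⟩

variable (h : Hyp A)
include h

local notation "C" => Subgroup.centralizer (A : Set P)
local notation "T" => Subgroup.centralizer (h.E : Set P)

theorem mem_E {x : P} : x ∈ h.E ↔ x ∈ A ∧ x ^ 2 = 1 := Iff.rfl

theorem E_le : h.E ≤ A := fun _ hx => hx.1

theorem le_C : A ≤ C := fun x hx y hy => h.comm y hy x hx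

theorem C_le_T : C ≤ T := Subgroup.centralizer_le fun _ hx => h.E_le hx

theorem normal_C : (C : Subgroup P).Normal :=
  have := h.normal
  inferInstance

theorem normal_E : h.E.Normal :=
  ⟨fun x hx g => ⟨h.normal.conj_mem x hx.1 g, by rw [conj_pow, hx.2]; simp⟩⟩

theorem normal_T : (T : Subgroup P).Normal :=
  have := h.normal_E
  inferInstance

theorem comm_E : IsMulCommutative h.E := ⟨⟨fun x y => Subtype.ext (h.comm _ x.2.1 _ y.2.1)⟩⟩

theorem card_E_le : Nat.card h.E ≤ 4 := h.small _ h.normal_E h.comm_E fun _ hx => hx.2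

theorem sq_mem_E {x : P} (hx : x ∈ A) : x ^ 2 ∈ h.E :=
  ⟨A.pow_mem hx 2, by rw [← pow_mul]; exact h.exp x hx⟩

theorem E_commute {t e : P} (ht : t ∈ T) (he : e ∈ h.E) : t * e = e * t := (ht e he).symm

theorem C_commute {c x : P} (hc : c ∈ C) (hx : x ∈ A) : c * x = x * c := (hc x hx).symm

theorem inv_eq_of_mem_E {e : P} (he : e ∈ h.E) : e⁻¹ = e := by
  rw [inv_eq_iff_mul_eq_one, ← pow_two]
  exact he.2

theorem comm_mem_E {t x : P} (ht : t ∈ T) (hx : x ∈ A) : ⁅t, x⁆ ∈ h.E := by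
  have h1 : t * x * t⁻¹ ∈ A := h.normal.conj_mem x hx t
  refine ⟨A.mul_mem h1 (A.inv_mem hx), ?_⟩
  rw [commutatorElement_def, Commute.mul_pow (h.comm _ h1 _ (A.inv_mem hx)), conj_pow,
    h.E_commute ht (h.sq_mem_E hx), mul_inv_cancel_right, inv_pow, mul_inv_cancel]

theorem comm_mul_left {s t x : P} (hs : s ∈ T) (ht : t ∈ T) (hx : x ∈ A) :
    ⁅s * t, x⁆ = ⁅s, x⁆ * ⁅t, x⁆ := by
  have h1 := h.comm_mem_E ht hx
  have h2 := h.comm_mem_E hs hx
  calc ⁅s * t, x⁆ = s * ⁅t, x⁆ * s⁻¹ * ⁅s, x⁆ := by simp only [commutatorElement_def]; group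
    _ = ⁅t, x⁆ * ⁅s, x⁆ := by rw [h.E_commute hs h1, mul_inv_cancel_right]
    _ = ⁅s, x⁆ * ⁅t, x⁆ := h.comm _ h1.1 _ h2.1

theorem comm_mul_right {t x y : P} (ht : t ∈ T) (hx : x ∈ A) (hy : y ∈ A) :
    ⁅t, x * y⁆ = ⁅t, x⁆ * ⁅t, y⁆ := by
  calc ⁅t, x * y⁆ = ⁅t, x⁆ * (x * ⁅t, y⁆ * x⁻¹) := by simp only [commutatorElement_def]; group
    _ = ⁅t, x⁆ * ⁅t, y⁆ := by rw [h.comm x hx _ (h.comm_mem_E ht hy).1, mul_inv_cancel_right]

theorem mem_C_iff {t : P} : t ∈ C ↔ ∀ x ∈ A, ⁅t, x⁆ = 1 :=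
  ⟨fun ht _ hx => commutatorElement_eq_one_iff_mul_comm.mpr (h.C_commute ht hx),
    fun ht x hx => (commutatorElement_eq_one_iff_mul_comm.mp (ht x hx)).symm⟩

theorem sq_mem_C {t : P} (ht : t ∈ T) : t ^ 2 ∈ C := by
  rw [h.mem_C_iff]
  intro x hx
  rw [pow_two, h.comm_mul_left ht ht hx, ← pow_two]
  exact (h.comm_mem_E ht hx).2

theorem comm_mem_C {s t : P} (hs : s ∈ T) (ht : t ∈ T) : ⁅s, t⁆ ∈ C := by
  rw [h.mem_C_iff]
  intro x hx
  have hi : ∀ {u : P}, u ∈ T → ⁅u⁻¹, x⁆ = ⁅u, x⁆ := by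
    intro u hu
    have := h.comm_mul_left (Subgroup.inv_mem _ hu) hu hx
    rw [inv_mul_cancel, commutatorElement_one_left] at this
    rw [eq_inv_of_mul_eq_one_left this.symm, h.inv_eq_of_mem_E (h.comm_mem_E hu hx)]
  rw [commutatorElement_def s t, h.comm_mul_left (Subgroup.mul_mem _ (Subgroup.mul_mem _ hs ht) (Subgroup.inv_mem _ hs))
    (Subgroup.inv_mem _ ht) hx, h.comm_mul_left (Subgroup.mul_mem _ hs ht) (Subgroup.inv_mem _ hs) hx,
    h.comm_mul_left hs ht hx, hi hs, hi ht]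
  have e1 := h.comm_mem_E hs hx
  have e2 := h.comm_mem_E ht hx
  rw [h.comm _ e1.1 _ e2.1, mul_assoc ⁅t, x⁆, ← pow_two ⁅s, x⁆, e1.2, mul_one,
    ← pow_two, e2.2]

theorem index_T_le [Finite P] : (T : Subgroup P).index ≤ 2 := by
  have : Fact (Nat.Prime 2) := ⟨Nat.prime_two⟩
  obtain ⟨k, hk⟩ := IsPGroup.iff_card.mp (h.pg.to_subgroup h.E)
  have h4 := h.card_E_le
  rw [hk] at h4
  have hk2 : k ≤ 2 := (Nat.pow_le_pow_iff_right (a := 2) (by norm_num)).mp h4
  refine (PGroups.index_centralizer_le h.pg k h.E h.normal_E hk).trans ?_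
  interval_cases k <;> decide

/-- The basic bound on subgroups of the centralizer of `A`. -/
theorem card_le_four_mul [Finite P] {K : Subgroup P} (hK : K ≤ C) :
    Nat.card K ≤ 4 * Nat.card (sqGen K) := by
  have hc : ∀ x : K, x ^ 4 = 1 → x ∈ Subgroup.center K := by
    intro x hx
    have hxA : (x : P) ∈ A := h.mem x (hK x.2) (by simpa using congrArg Subtype.val hx)
    exact Subgroup.mem_center_iff.mpr fun y => Subtype.ext (h.C_commute (hK y.2) hxA)
  have h1 := card_le_omega_mul_sqGen _ K rfl (h.pg.to_subgroup K) hc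
  have h2 : Nat.card (sqGen (⊤ : Subgroup K)) = Nat.card (sqGen K) := by
    rw [← Subgroup.card_map_of_injective K.subtype_injective, map_sqGen, ← MonoidHom.range_eq_map,
      Subgroup.range_subtype]
  have h3 : Nat.card {x : K // x ^ 2 = 1} ≤ Nat.card h.E := by
    refine Nat.card_le_card_of_injective (fun x => ⟨(x.1 : P), ?_, ?_⟩) fun a b e =>
      Subtype.ext (Subtype.ext (congrArg (fun w : h.E => (w : P)) e))
    · refine h.mem _ (hK x.1.2) ?_
      have : ((x.1 : P)) ^ 2 = 1 := by simpa using congrArg Subtype.val x.2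
      rw [show (4 : ℕ) = 2 * 2 from rfl, pow_mul, this, one_pow]
    · simpa using congrArg Subtype.val x.2
  rw [h2] at h1
  exact h1.trans (Nat.mul_le_mul_right _ (h3.trans h.card_E_le))

theorem card_inf_C_le [Finite P] (H : Subgroup P) :
    Nat.card (H ⊓ C : Subgroup P) ≤ 4 * Nat.card (sqGen H ⊓ C : Subgroup P) :=
  (h.card_le_four_mul inf_le_right).trans (Nat.mul_le_mul_left _ (Subgroup.card_le_of_le
    (le_inf (sqGen_mono inf_le_left) (sqGen_le.trans inf_le_right))))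

/-- If `|A| ≤ 4` then `|H| ≤ 16 * |⟨h²⟩|`. -/
theorem bound_of_card_le_four [Finite P] (hA : Nat.card A ≤ 4) (H : Subgroup P) :
    Nat.card H ≤ 16 * Nat.card (sqGen H) := by
  have : Fact (Nat.Prime 2) := ⟨Nat.prime_two⟩
  have := h.normal_C
  obtain ⟨k, hk⟩ := IsPGroup.iff_card.mp (h.pg.to_subgroup A)
  rw [hk] at hA
  have hk2 : k ≤ 2 := (Nat.pow_le_pow_iff_right (a := 2) (by norm_num)).mp hA
  have hi : (C : Subgroup P).index ≤ 2 := by
    refine (PGroups.index_centralizer_le h.pg k A h.normal hk).trans ?_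
    interval_cases k <;> decide
  calc Nat.card H ≤ 2 * Nat.card (H ⊓ C : Subgroup P) :=
        (card_le_index_mul_inf C H).trans (Nat.mul_le_mul_right _ hi)
    _ ≤ 2 * (4 * Nat.card (sqGen H ⊓ C : Subgroup P)) := Nat.mul_le_mul_left _ (h.card_inf_C_le H)
    _ ≤ 2 * (4 * Nat.card (sqGen H)) :=
        Nat.mul_le_mul_left _ (Nat.mul_le_mul_left _ (Subgroup.card_le_of_le inf_le_left))
    _ ≤ 16 * Nat.card (sqGen H) := by omega

/-- Commutation with a fixed element of `H` maps `H ⊓ T` modulo its fixed points into the squares. -/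
theorem exists_fixed_subgroup [Finite P] (H : Subgroup P) {g : P} (hg : g ∈ H) :
    ∃ D : Subgroup P, D ≤ H ⊓ T ∧ H ⊓ C ≤ D ∧ (∀ t ∈ D, ⁅g, t⁆ ∈ C) ∧
      Nat.card (H ⊓ T : Subgroup P) * Nat.card (sqGen H ⊓ C : Subgroup P) ≤
        Nat.card D * Nat.card (sqGen H) := by
  have := h.normal_C
  have hTn := h.normal_T
  let f := QuotientGroup.mk' (C : Subgroup P)
  have hgT : ∀ t ∈ T, ⁅g, t⁆ ∈ T := fun t ht => by
    rw [commutatorElement_def]
    exact Subgroup.mul_mem _ (hTn.conj_mem t ht g) (Subgroup.inv_mem _ ht)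
  let φ : (H ⊓ T : Subgroup P) →* P ⧸ (C : Subgroup P) := MonoidHom.mk' (fun t => f ⁅g, (t : P)⁆)
    fun s t => by
      show f ⁅g, (s : P) * t⁆ = f ⁅g, (s : P)⁆ * f ⁅g, (t : P)⁆
      have hc : f ⁅(s : P), ⁅g, (t : P)⁆⁆ = 1 :=
        (QuotientGroup.eq_one_iff _).mpr (h.comm_mem_C s.2.2 (hgT _ t.2.2))
      have e : ⁅g, (s : P) * t⁆ = ⁅g, (s : P)⁆ * (⁅(s : P), ⁅g, (t : P)⁆⁆ * ⁅g, (t : P)⁆) := by
        simp only [commutatorElement_def]
        group
      rw [e, map_mul, map_mul, hc, one_mul]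
  refine ⟨φ.ker.map (H ⊓ T : Subgroup P).subtype, Subgroup.map_subtype_le _, ?_, ?_, ?_⟩
  · intro c hc
    refine ⟨⟨c, hc.1, h.C_le_T hc.2⟩, ?_, rfl⟩
    refine (QuotientGroup.eq_one_iff _).mpr ?_
    rw [commutatorElement_def]
    exact Subgroup.mul_mem _ (h.normal_C.conj_mem c hc.2 g) (Subgroup.inv_mem _ hc.2)
  · rintro _ ⟨t, ht, rfl⟩
    exact (QuotientGroup.eq_one_iff _).mp ht
  · rw [Subgroup.card_map_of_injective (H ⊓ T : Subgroup P).subtype_injective,
      ← Subgroup.card_mul_index φ.ker, Subgroup.index_ker, mul_assoc]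
    refine Nat.mul_le_mul_left _ ?_
    have hs := card_map_mul_card_inf_ker f (sqGen H)
    rw [QuotientGroup.ker_mk'] at hs
    rw [← hs]
    refine Nat.mul_le_mul_right _ (Subgroup.card_le_of_le ?_)
    rintro _ ⟨t, rfl⟩
    exact ⟨⁅g, (t : P)⁆, commutator_mem_sqGen hg t.2.1, rfl⟩

end Hyp

end Cfsg.Agent.Lib.NormalRankTwo
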